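import Cfsg.Agent.Lib.Fischer3.Orbits
import Cfsg.Agent.Lib.Components.FStar
import Cfsg.Agent.Lib.Components.Fitting

/-!
# Cores and components of a group generated by a class of 3-transpositions
-/

set_option autoImplicit false
set_option linter.unusedSectionVars false

open scoped commutatorElement

namespace Cfsg.Agent.Fischer3

open Cfsg ClassK

universe u

variable {G : Type u} [Group G] [Finite G] {D : Set G}

theorem class_exists_conj (hD : IsThreeTranspositionClass D) {a b : G} (ha : a ∈ D) (hb : b ∈ D) :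
    ∃ g : G, g * a * g⁻¹ = b := by
  obtain ⟨c, -, hc⟩ := hD.2.1
  rw [hc] at ha hb
  exact isConj_iff.1 ((IsConj.symm ha).trans hb)

theorem mem_center_of_commute_all (hD : IsThreeTranspositionClass D) {x : G}
    (h : ∀ a ∈ D, Commute a x) : x ∈ Subgroup.center G := by
  refine Subgroup.mem_center_iff.2 fun g => ?_
  have hle : Subgroup.closure D ≤ Subgroup.centralizer {x} :=
    (Subgroup.closure_le _).2 fun a ha => Subgroup.mem_centralizer_singleton_iff.2 (h a ha).eq
  rw [hD.2.2] at hle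
  exact Subgroup.mem_centralizer_singleton_iff.1 (hle (Subgroup.mem_top g))

theorem pCore_le_center (hD : IsThreeTranspositionClass D) {p : ℕ} (hp : p.Prime) (hp3 : 3 < p) :
    pCore p G ≤ Subgroup.center G := by
  haveI : Fact p.Prime := ⟨hp⟩
  have hG := class_group hD
  intro x hx
  refine mem_center_of_commute_all hD fun d hd => ?_
  have hm : d * (x * d * x⁻¹) ∈ pCore p G := inv_mul_mem_of_conj hG hd hx
  have hd' := hG.2.1 x d hd
  have hn : ∀ {n : ℕ}, n = 2 ∨ n = 3 → Nat.Coprime p n := by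
    rintro n (rfl | rfl)
    · exact (Nat.coprime_primes hp Nat.prime_two).2 (by omega)
    · exact (Nat.coprime_primes hp Nat.prime_three).2 (by omega)
  have h1 : d = x * d * x⁻¹ := by
    rcases hG.1.2 d hd _ hd' with h | h
    · exact eq_of_mul_mem_pGroup hG (Basics.pCore_isPGroup p) hd hd' hm (hn (.inl rfl)) h
    · exact eq_of_mul_mem_pGroup hG (Basics.pCore_isPGroup p) hd hd' hm (hn (.inr rfl)) h
  exact eq_mul_inv_iff_mul_eq.1 h1

/-- The conjugates of a member `d` under a normal subgroup with a `p`-group of products. -/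
theorem conj_mul_mem_pCore (E : Subgroup G) (hD : IsThreeTranspositionGroup D) [hE : E.Normal]
    {p : ℕ} [Fact p.Prime] {d : G} (hd : d ∈ D)
    (hp : IsPGroup p (prodSub {s | ∃ x ∈ E, s = x * d * x⁻¹})) {x : G} (hx : x ∈ E) :
    x * d * x⁻¹ * d ∈ pCore p G := by
  set S := {s | ∃ x ∈ E, s = x * d * x⁻¹} with hS
  haveI : ((prodSub S ⊓ E).subgroupOf E).Normal := ⟨fun a ha g => by
    rw [Subgroup.mem_subgroupOf] at ha ⊢
    obtain ⟨ha1, ha2⟩ := Subgroup.mem_inf.1 ha
    refine Subgroup.mem_inf.2 ⟨?_, hE.conj_mem _ ha2 _⟩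
    refine conj_mem_prodSub (S := S) ?_ ha1
    rintro _ ⟨y, hy, rfl⟩
    exact ⟨g * y, mul_mem g.2 hy, by group⟩⟩
  have hle : (prodSub S ⊓ E).subgroupOf E ≤ pCore p E :=
    Basics.le_pCore ((hp.to_le inf_le_left).of_equiv
      (Subgroup.subgroupOfEquivOfLe inf_le_right).symm)
  have hM : (pCore p E).map E.subtype ≤ pCore p G :=
    Basics.le_pCore ((Basics.pCore_isPGroup p).map E.subtype)
  have hmE : x * d * x⁻¹ * d ∈ E := by
    have := mul_mem hx (hE.conj_mem _ (inv_mem hx) d)
    rw [tt_inv hD.1 hd] at this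
    simpa [mul_assoc] using this
  have hmS : x * d * x⁻¹ * d ∈ prodSub S :=
    mul_mem_prodSub ⟨x, hx, rfl⟩ ⟨1, one_mem E, by simp⟩
  exact hM ⟨⟨_, hmE⟩, hle (Subgroup.mem_subgroupOf.2 (Subgroup.mem_inf.2 ⟨hmS, hmE⟩)), rfl⟩

/-- A perfect normal subgroup moving `d` only inside a core which it centralizes fixes `d`. -/
theorem commute_of_perfect {E N : Subgroup G} [hE : E.Normal] (hperf : ⁅E, E⁆ = E)
    (hEN : ⁅E, N⁆ = ⊥) {d : G} (hdd : d * d = 1) (h : ∀ x ∈ E, x * d * x⁻¹ * d ∈ N) :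
    ∀ x ∈ E, Commute d x := by
  have hdinv : d⁻¹ = d := inv_eq_of_mul_eq_one_right hdd
  let z : G → G := fun x => x * d * x⁻¹ * d
  have hmul : ∀ x ∈ E, ∀ y ∈ E, z (x * y) = z y * z x := by
    intro x hx y hy
    have hc : x * z y = z y * x :=
      Subgroup.commutator_eq_bot_iff_le_centralizer.1 hEN hx (z y) (h y hy) |>.symm
    calc z (x * y) = (x * z y * x⁻¹) * z x := by
          simp only [z, mul_inv_rev, mul_assoc, inv_mul_cancel_left]
          rw [← mul_assoc d d, hdd, one_mul]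
      _ = z y * z x := by rw [hc, mul_inv_cancel_right]
  have hzE : ∀ x ∈ E, z x ∈ E := fun x hx => by
    have := mul_mem hx (hE.conj_mem _ (inv_mem hx) d)
    rw [hdinv] at this
    simpa [z, mul_assoc] using this
  have hzc : ∀ x ∈ E, ∀ y ∈ E, z x * z y = z y * z x := fun x hx y hy =>
    (Subgroup.commutator_eq_bot_iff_le_centralizer.1 hEN (hzE x hx) (z y) (h y hy)).symm
  have hz1 : z 1 = 1 := by simp [z, hdd]
  have hzinv : ∀ x ∈ E, z x⁻¹ = (z x)⁻¹ := fun x hx => by
    have := hmul x hx x⁻¹ (inv_mem hx)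
    rw [mul_inv_cancel, hz1] at this
    exact eq_inv_of_mul_eq_one_left this.symm
  have hle : ⁅E, E⁆ ≤ Subgroup.centralizer {d} := by
    rw [Subgroup.commutator_le]
    intro x hx y hy
    have hxy := mul_mem hx hy
    have e : z (x * y * x⁻¹ * y⁻¹) = 1 := by
      rw [hmul _ (mul_mem hxy (inv_mem hx)) _ (inv_mem hy), hmul _ hxy _ (inv_mem hx),
        hmul x hx y hy, hzinv x hx, hzinv y hy,
        show (z y)⁻¹ * ((z x)⁻¹ * (z y * z x)) = (z y)⁻¹ * (z x)⁻¹ * (z y * z x) by
          simp only [mul_assoc], ← mul_inv_rev, hzc x hx y hy, inv_mul_cancel]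
    rw [Subgroup.mem_centralizer_singleton_iff, commutatorElement_def]
    have h2 := eq_inv_of_mul_eq_one_left e
    rw [hdinv] at h2
    exact mul_inv_eq_iff_eq_mul.1 h2
  intro x hx
  exact (Subgroup.mem_centralizer_singleton_iff.1 (hle (hperf.symm ▸ hx))).symm

theorem commute_pCore_of_component {L : Subgroup G} (hL : Cfsg.IsComponent L) (p : ℕ)
    [Fact p.Prime] : ⁅L, pCore p G⁆ = ⊥ :=
  haveI := (Basics.pCore_isPGroup (G := G) p).isNilpotent
  Components.component_commute_normal_solvable hL inferInstance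

theorem exists_moved (hD : IsThreeTranspositionClass D) {p : ℕ}
    (hp : ¬ pCore p G ≤ Subgroup.center G) {d : G} (hd : d ∈ D) :
    ∃ g ∈ pCore p G, g * d * g⁻¹ ≠ d := by
  by_contra! h
  refine hp fun x hx => mem_center_of_commute_all hD fun a ha => ?_
  obtain ⟨g, rfl⟩ := class_exists_conj hD hd ha
  have h1 := mul_inv_eq_iff_eq_mul.1
    (h (g⁻¹ * x * g⁻¹⁻¹) ((inferInstance : (pCore p G).Normal).conj_mem x hx g⁻¹))
  have := commute_conj g (show Commute d (g⁻¹ * x * g⁻¹⁻¹) from h1.symm)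
  rwa [show g * (g⁻¹ * x * g⁻¹⁻¹) * g⁻¹ = x by group] at this

/-- A non-central 2-core forces the 3-core to be central and the layer to be trivial. -/
theorem pCore_two_noncentral (hD : IsThreeTranspositionClass D)
    (h2 : ¬ pCore 2 G ≤ Subgroup.center G) :
    pCore 3 G ≤ Subgroup.center G ∧ layer G = ⊥ := by
  have hG := class_group hD
  have hv : ∀ d ∈ D, ∃ v ∈ D, v ≠ d ∧ RelV D v d := fun d hd => by
    obtain ⟨g, hg, hne⟩ := exists_moved hD h2 hd
    exact ⟨_, hG.2.1 g d hd, hne,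
      (relV_iff hG (hG.2.1 g d hd) hd).2 (inv_mul_mem_of_conj hG hd hg)⟩
  refine ⟨?_, ?_⟩
  · by_contra h3
    obtain ⟨d, hd, -⟩ := hD.2.1
    obtain ⟨g, hg, hne⟩ := exists_moved hD h3 hd
    obtain ⟨v, hvD, hvd, hV⟩ := hv d hd
    have hd' := hG.2.1 g d hd
    have hW : RelW D (g * d * g⁻¹) d := (relW_iff hG hd' hd).2 (inv_mul_mem_of_conj hG hd hg)
    have h1 := (hW v hvD).2 ⟨hvd, (relV_comm hvD hV).symm⟩
    exact hne (relW_eq_of_commute hd hW ((hV _ hd').1 h1.2.symm).symm)
  · by_contra hE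
    refine hE ((Subgroup.eq_bot_iff_forall _).2 fun x hx => ?_)
    have hEc : Cfsg.layer G ≤ Subgroup.center G := fun x hx => by
      refine mem_center_of_commute_all hD fun d hd => ?_
      obtain ⟨v, hvD, hvd, hV⟩ := hv d hd
      have hvdc : Commute v d := relV_comm hvD hV
      have hEN : ⁅Cfsg.layer G, pCore 2 G⁆ = ⊥ :=
        haveI := (Basics.pCore_isPGroup (G := G) 2).isNilpotent
        Components.layer_commute_normal_solvable _ inferInstance
      have hcomm : ∀ a ∈ {s | ∃ x ∈ Cfsg.layer G, s = x * d * x⁻¹}, Commute a d := by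
        rintro _ ⟨x, hx, rfl⟩
        have ht := Subgroup.commutator_eq_bot_iff_le_centralizer.1 hEN hx (v * d)
          (relV_mem_pCore hG hvD hd hV)
        have ht' : x * (v * d) * x⁻¹ = v * d := by rw [← ht, mul_inv_cancel_right]
        have htd : Commute d ((x * v * x⁻¹) * (x * d * x⁻¹)) := by
          rw [show x * v * x⁻¹ * (x * d * x⁻¹) = v * d by rw [← ht']; group]
          exact hvdc.symm.mul_right (Commute.refl d)
        exact ((commute_pair_iff hG.1 (hG.2.1 x v hvD) (hG.2.1 x d hd) hd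
          (fun e => hvd (mul_left_cancel (mul_right_cancel e))) (commute_conj x hvdc)).1 htd).2.symm
      refine commute_of_perfect Components.layer_commutator_eq_self hEN (tt_mul_self hG.1 hd)
        (fun y hy => conj_mul_mem_pCore _ hG hd (p := 2) ?_ hy) x hx
      refine isPGroup_prodSub_two ⟨?_, ?_⟩ ?_
      · rintro _ ⟨x, -, rfl⟩
        exact hG.1.1 _ (hG.2.1 x d hd)
      · rintro _ ⟨x, -, rfl⟩ _ ⟨y, -, rfl⟩
        exact hG.1.2 _ (hG.2.1 x d hd) _ (hG.2.1 y d hd)
      · rintro _ ⟨x, hx, rfl⟩ _ ⟨y, hy, rfl⟩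
        have h := commute_conj x (hcomm _ ⟨x⁻¹ * y, mul_mem (inv_mem hx) hy, rfl⟩).symm
        rwa [show x * (x⁻¹ * y * d * (x⁻¹ * y)⁻¹) * x⁻¹ = y * d * y⁻¹ by group] at h
    have hperf := Components.layer_commutator_eq_self (G := G)
    have hbot : ⁅Cfsg.layer G, Cfsg.layer G⁆ = ⊥ := by
      rw [Subgroup.commutator_eq_bot_iff_le_centralizer]
      intro a _ b hb
      exact (Subgroup.mem_center_iff.1 (hEc hb) a).symm
    rw [← hperf, hbot] at hx
    exact Subgroup.mem_bot.1 hx

/-- A non-central 3-core forces the layer to be trivial. -/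
theorem pCore_three_noncentral (hD : IsThreeTranspositionClass D)
    (h3 : ¬ pCore 3 G ≤ Subgroup.center G) : layer G = ⊥ := by
  have hG := class_group hD
  haveI : Fact (Nat.Prime 3) := ⟨Nat.prime_three⟩
  have hEN : ⁅Cfsg.layer G, pCore 3 G⁆ = ⊥ :=
    haveI := (Basics.pCore_isPGroup (G := G) 3).isNilpotent
    Components.layer_commute_normal_solvable _ inferInstance
  have hEc : Cfsg.layer G ≤ Subgroup.center G := fun x hx => by
    refine mem_center_of_commute_all hD fun d hd => ?_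
    obtain ⟨g, hg, hne⟩ := exists_moved hD h3 hd
    have hw := hG.2.1 g d hd
    have hW : RelW D (g * d * g⁻¹) d := (relW_iff hG hw hd).2 (inv_mul_mem_of_conj hG hd hg)
    set w := g * d * g⁻¹ with hwdef
    refine commute_of_perfect Components.layer_commutator_eq_self hEN (tt_mul_self hG.1 hd)
      (fun y hy => conj_mul_mem_pCore _ hG hd (p := 3) ?_ hy) x hx
    refine isPGroup_prodSub_three ⟨?_, ?_⟩ ?_ ?_
    · rintro _ ⟨x, -, rfl⟩
      exact hG.1.1 _ (hG.2.1 x d hd)
    · rintro _ ⟨x, -, rfl⟩ _ ⟨y, -, rfl⟩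
      exact hG.1.2 _ (hG.2.1 x d hd) _ (hG.2.1 y d hd)
    · rintro _ ⟨x, hx, rfl⟩ _ ⟨y, hy, rfl⟩
      refine ⟨x * (d * (x⁻¹ * y) * d⁻¹), mul_mem hx ((inferInstance :
        (Cfsg.layer G).Normal).conj_mem _ (mul_mem (inv_mem hx) hy) d), ?_⟩
      rw [tt_inv hG.1 hd]
      calc x * d * x⁻¹ * (y * d * y⁻¹) * (x * d * x⁻¹)⁻¹
          = x * d * x⁻¹ * y * d * y⁻¹ * x * d⁻¹ * x⁻¹ := by group
        _ = x * d * x⁻¹ * y * (d * (d * d)) * y⁻¹ * x * d * x⁻¹ := by
            rw [tt_inv hG.1 hd, tt_mul_self hG.1 hd, mul_one]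
        _ = _ := by simp only [mul_inv_rev, tt_inv hG.1 hd, inv_inv, mul_assoc]
    · rintro _ ⟨x, hx, rfl⟩ _ ⟨y, hy, rfl⟩ hc
      obtain ⟨z, hz, rfl⟩ : ∃ z ∈ Cfsg.layer G, y = x * z :=
        ⟨x⁻¹ * y, mul_mem (inv_mem hx) hy, by group⟩
      have hzd : Commute d (z * d * z⁻¹) := by
        refine (commute_conj_iff x _ _).1 ?_
        rwa [show x * (z * d * z⁻¹) * x⁻¹ = x * z * d * (x * z)⁻¹ by group]
      by_contra hne'
      have hzne : z * d * z⁻¹ ≠ d := fun e => hne' (by
        rw [show x * z * d * (x * z)⁻¹ = x * (z * d * z⁻¹) * x⁻¹ by group, e])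
      have h1 := (hW _ (hG.2.1 z d hd)).2 ⟨hzne, hzd⟩
      -- `d * w` is fixed by `z`, yet both commute with `z d z⁻¹`
      have ht := Subgroup.commutator_eq_bot_iff_le_centralizer.1 hEN hz (w * d)
        (relW_mem_pCore hG hw hd hW)
      have hc2 : Commute (z * d * z⁻¹) (w * d) := h1.2.symm.mul_right hzd.symm
      have hc3 : Commute d (w * d) := by
        refine (commute_conj_iff z d (w * d)).1 ?_
        rwa [show z * (w * d) * z⁻¹ = w * d by rw [← ht, mul_inv_cancel_right]]
      have hc4 : Commute d w := by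
        have := hc3.mul_right (Commute.refl d)
        rwa [mul_assoc, tt_mul_self hG.1 hd, mul_one] at this
      exact hne (relW_eq_of_commute hd hW hc4.symm)
  refine (Subgroup.eq_bot_iff_forall _).2 fun x hx => ?_
  have hbot : ⁅Cfsg.layer G, Cfsg.layer G⁆ = ⊥ := by
    rw [Subgroup.commutator_eq_bot_iff_le_centralizer]
    intro a _ b hb
    exact (Subgroup.mem_center_iff.1 (hEc hb) a).symm
  rw [← Components.layer_commutator_eq_self (G := G), hbot] at hx
  exact Subgroup.mem_bot.1 hx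

theorem fitting_le_center (hD : IsThreeTranspositionClass D)
    (h2 : pCore 2 G ≤ Subgroup.center G) (h3 : pCore 3 G ≤ Subgroup.center G) :
    fittingSubgroup G ≤ Subgroup.center G := by
  rw [Basics.fittingSubgroup_eq_iSup_pCore]
  refine iSup_le fun ⟨p, hpp⟩ => ?_
  show pCore p G ≤ Subgroup.center G
  rcases le_or_gt p 3 with h | h
  · interval_cases p
    · exact absurd hpp (by norm_num)
    · exact absurd hpp (by norm_num)
    · exact h2
    · exact h3
  · exact pCore_le_center hD hpp h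

theorem center_le_fitting : Subgroup.center G ≤ fittingSubgroup G :=
  Components.le_fitting inferInstance (@CommGroup.isNilpotent _
    { (inferInstance : Group (Subgroup.center G)) with
      mul_comm := fun a b => Subtype.ext (Subgroup.mem_center_iff.1 b.2 a) })

theorem layer_ne_bot (hD : IsThreeTranspositionClass D) (hD2 : ∃ a ∈ D, ∃ b ∈ D, a ≠ b)
    (h2 : pCore 2 G ≤ Subgroup.center G) (h3 : pCore 3 G ≤ Subgroup.center G) : layer G ≠ ⊥ := by
  intro hL
  have hF : generalizedFittingSubgroup G ≤ Subgroup.center G := by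
    rw [generalizedFittingSubgroup, hL, bot_sup_eq]
    exact fitting_le_center hD h2 h3
  have htop : (⊤ : Subgroup G) ≤ Subgroup.center G := by
    refine le_trans ?_ hF
    refine le_trans ?_ Components.centralizer_fStar_le
    intro g _ z hz
    exact (Subgroup.mem_center_iff.1 (hF hz) g).symm
  obtain ⟨a, ha, b, hb, hab⟩ := hD2
  obtain ⟨g, hg⟩ := class_exists_conj hD ha hb
  exact hab (by rw [← hg, Subgroup.mem_center_iff.1 (htop (Subgroup.mem_top a)) g,
    mul_inv_cancel_right])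

end Cfsg.Agent.Fischer3
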