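import Cfsg.Agent.Lib.Fischer3.Quasisimple
import Cfsg.Agent.Lib.ClassK.FischerRankThree

/-!
# Primitive groups of 3-transpositions
-/

set_option autoImplicit false
set_option linter.unusedSectionVars false

open scoped commutatorElement

namespace Cfsg.Agent.Fischer3

open Cfsg ClassK

universe u

variable {G : Type u} [Group G] [Finite G] {D : Set G}

/-- An almost simple group of 3-transpositions acts primitively on the class. -/
theorem primitive_of_setup (h : Fischer.Setup D) : IsPrimitiveUnderConj D := by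
  refine ⟨fun a ha b hb => Fischer.exists_conj h ha hb, ?_, fun B hB hblock => ?_⟩
  · obtain ⟨x, hx, y, hy, hxy⟩ := Fischer.exists_not_commute h
    exact ⟨x, hx, y, hy, fun e => hxy (e ▸ Commute.refl x)⟩
  by_cases hsub : B.Subsingleton
  · exact .inl hsub
  refine .inr (Set.Subset.antisymm hB fun x hx => ?_)
  obtain ⟨a, ha, d, hd, hne⟩ := Set.not_subsingleton_iff.1 hsub
  let c : G → Set G := fun g => (fun x => g * x * g⁻¹) '' B
  have hceq : ∀ g k x, x ∈ c g → x ∈ c k → c g = c k := by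
    intro g k x hg hk
    rcases hblock (k⁻¹ * g) with e | e
    · show (fun x => g * x * g⁻¹) '' B = (fun x => k * x * k⁻¹) '' B
      conv_rhs => rw [← e]
      rw [← Set.image_comp]
      congr 1
      funext z
      simp only [Function.comp_apply]
      group
    · exfalso
      obtain ⟨u, hu, rfl⟩ := hg
      obtain ⟨v, hv, hvu⟩ := hk
      simp only at hvu
      exact Set.disjoint_left.1 e ⟨u, hu, by
        show k⁻¹ * g * u * (k⁻¹ * g)⁻¹ = v
        rw [show v = k⁻¹ * (g * u * g⁻¹) * k by rw [← hvu]; group]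
        group⟩ hv
  have hconj : ∀ k g : G, ∀ z, z ∈ c g → k * z * k⁻¹ ∈ c (k * g) := by
    rintro k g _ ⟨u, hu, rfl⟩
    exact ⟨u, hu, by simp only; group⟩
  have hcD : ∀ g z, z ∈ c g → z ∈ D := by
    rintro g _ ⟨u, hu, rfl⟩
    exact Fischer.conj_mem h g (hB hu)
  have hblk : ∀ g u v z, u ∈ c g → v ∈ c g → z ∈ D → z ∉ c g → Commute z u → Commute z v := by
    intro g u v z hu hv hz hzg hzu
    by_contra hzv
    have hvD := hcD g v hv
    have h1 := hconj z g u hu
    rw [conj_eq_of_commute hzu] at h1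
    have h2 := hconj z g v hv
    rw [← hceq g (z * g) u hu h1] at h2
    have h3 := hconj v g v hv
    rw [mul_inv_cancel_right] at h3
    have h4 := hconj v g _ h2
    rw [← hceq g (v * g) v hv h3, tt_inv h.cls.1 hz, tt_inv h.cls.1 hvD,
      tt_braid h.cls.1 hz hvD hzv, show v * (v * z * v) * v = (v * v) * z * (v * v) by
        simp only [mul_assoc], tt_mul_self h.cls.1 hvD, one_mul, mul_one] at h4
    exact hzg h4
  let r : G → G → Prop := fun x y => ∃ g, x ∈ c g ∧ y ∈ c g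
  have hcover : ∀ z ∈ D, ∃ g, z ∈ c g := fun z hz => by
    obtain ⟨g, hg⟩ := Fischer.exists_conj h (hB ha) hz
    exact ⟨g, a, ha, hg⟩
  have h1B : ∀ z, z ∈ B ↔ z ∈ c 1 := fun z => by simp [c]
  obtain ⟨g, hga, hgx⟩ := Fischer.master h r
    (fun z hz => (hcover z hz).imp fun g hg => ⟨hg, hg⟩)
    (fun _ _ _ _ ⟨g, e1, e2⟩ => ⟨g, e2, e1⟩)
    (fun _ _ y _ _ _ ⟨g, e1, e2⟩ ⟨k, e3, e4⟩ => ⟨g, e1, (hceq g k y e2 e3) ▸ e4⟩)
    (fun k _ _ _ _ ⟨g, e1, e2⟩ => ⟨k * g, hconj k g _ e1, hconj k g _ e2⟩)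
    (fun x hx y hy z hz ⟨g, e1, e2⟩ hn hc =>
      hblk g x y z e1 e2 hz (fun e => hn ⟨g, e, e1⟩) hc)
    (hB ha) (hB hd) ⟨1, (h1B a).1 ha, (h1B d).1 hd⟩ hne a (hB ha) x hx
  rw [h1B, ← hceq g 1 a hga ((h1B a).1 ha)]
  assumption

/-- A conjugation-invariant equivalence on a primitive class is trivial or universal. -/
theorem rel_all_of_primitive (hD : IsThreeTranspositionGroup D) (hprim : IsPrimitiveUnderConj D)
    (r : G → G → Prop) (hrefl : ∀ x ∈ D, r x x) (hsymm : ∀ x ∈ D, ∀ y ∈ D, r x y → r y x)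
    (htrans : ∀ x ∈ D, ∀ y ∈ D, ∀ z ∈ D, r x y → r y z → r x z)
    (hinv : ∀ g : G, ∀ x ∈ D, ∀ y ∈ D, r x y → r (g * x * g⁻¹) (g * y * g⁻¹))
    {a b : G} (ha : a ∈ D) (hb : b ∈ D) (hab : r a b) (hne : a ≠ b) : ∀ x ∈ D, r x a := by
  have hblock : ∀ g : G, (fun x => g * x * g⁻¹) '' {x | x ∈ D ∧ r x a} = {x | x ∈ D ∧ r x a} ∨
      Disjoint ((fun x => g * x * g⁻¹) '' {x | x ∈ D ∧ r x a}) {x | x ∈ D ∧ r x a} := by
    intro g
    have hga := hD.2.1 g a ha
    by_cases hg : r (g * a * g⁻¹) a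
    · left
      ext z
      constructor
      · rintro ⟨x, ⟨hx, hxa⟩, rfl⟩
        exact ⟨hD.2.1 g x hx, htrans _ (hD.2.1 g x hx) _ hga _ ha (hinv g x hx a ha hxa) hg⟩
      · rintro ⟨hz, hza⟩
        refine ⟨g⁻¹ * z * g⁻¹⁻¹, ⟨hD.2.1 g⁻¹ z hz, ?_⟩, by simp only; group⟩
        have h1 := hinv g⁻¹ z hz _ hga (htrans _ hz _ ha _ hga hza (hsymm _ hga _ ha hg))
        rwa [show g⁻¹ * (g * a * g⁻¹) * g⁻¹⁻¹ = a by group] at h1
    · right
      refine Set.disjoint_left.2 ?_
      rintro _ ⟨x, ⟨hx, hxa⟩, rfl⟩ ⟨hz, hza⟩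
      exact hg (htrans _ hga _ hz _ ha (hsymm _ hz _ hga (hinv g x hx a ha hxa)) hza)
  rcases hprim.2.2 {x | x ∈ D ∧ r x a} (fun x hx => hx.1) hblock with h | h
  · exact absurd (h ⟨hb, hsymm a ha b hb hab⟩ ⟨ha, hrefl a ha⟩).symm hne
  · exact fun x hx => ((Set.ext_iff.1 h x).2 hx).2

theorem class_of_primitive (hD : IsThreeTranspositionGroup D) (hprim : IsPrimitiveUnderConj D) :
    IsThreeTranspositionClass D := by
  obtain ⟨d, hd, -⟩ := hprim.2.1
  refine ⟨hD.1, ⟨d, hd, Set.ext fun x => ⟨fun hx => isConj_iff.2 (hprim.1 d hd x hx), fun hx => ?_⟩⟩,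
    hD.2.2⟩
  obtain ⟨g, rfl⟩ := isConj_iff.1 hx
  exact hD.2.1 g d hd

theorem pCores_central_of_primitive (hD : IsThreeTranspositionGroup D)
    (hprim : IsPrimitiveUnderConj D) (hw : ∃ a ∈ D, ∃ b ∈ D, a ≠ b ∧ Commute a b) :
    pCore 2 G ≤ Subgroup.center G ∧ pCore 3 G ≤ Subgroup.center G := by
  have hC := class_of_primitive hD hprim
  have hinvV : ∀ g : G, ∀ x ∈ D, ∀ y ∈ D, RelV D x y → RelV D (g * x * g⁻¹) (g * y * g⁻¹) := by
    intro g x _ y _ h e he
    obtain ⟨e', he', rfl⟩ := conj_rel_transfer hD g he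
    rw [commute_conj_iff, commute_conj_iff]
    exact h e' he'
  have hinvW : ∀ g : G, ∀ x ∈ D, ∀ y ∈ D, RelW D x y → RelW D (g * x * g⁻¹) (g * y * g⁻¹) := by
    intro g x _ y _ h e he
    obtain ⟨e', he', rfl⟩ := conj_rel_transfer hD g he
    simp only [commute_conj_iff, ne_eq, mul_left_inj, mul_right_inj]
    exact h e' he'
  obtain ⟨d, hd, -⟩ := hprim.2.1
  constructor
  · by_contra h2
    obtain ⟨g, hg, hne⟩ := exists_moved hC h2 hd
    have hv := hD.2.1 g d hd
    obtain ⟨e, he, hde⟩ := exists_not_commute hC hprim.2.1 hd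
    have hall := rel_all_of_primitive hD hprim (RelV D) (fun x _ e _ => Iff.rfl)
      (fun x _ y _ h e he => (h e he).symm) (fun x _ y _ z _ h h' e he => (h e he).trans (h' e he))
      hinvV hd hv (fun e he => (((relV_iff hD hv hd).2 (inv_mul_mem_of_conj hD hd hg)) e he).symm)
      hne.symm
    exact hde (relV_comm he (hall e he)).symm
  · by_contra h3
    obtain ⟨g, hg, hne⟩ := exists_moved hC h3 hd
    have hv := hD.2.1 g d hd
    have hall := rel_all_of_primitive hD hprim (RelW D) (fun x _ e _ => Iff.rfl)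
      (fun x _ y _ h e he => (h e he).symm) (fun x _ y _ z _ h h' e he => (h e he).trans (h' e he))
      hinvW hd hv (fun e he => (((relW_iff hD hv hd).2 (inv_mul_mem_of_conj hD hd hg)) e he).symm)
      hne.symm
    obtain ⟨a, ha, b, hb, hab, hc⟩ := hw
    exact hab (relW_eq_of_commute hb (fun e he => (hall a ha e he).trans (hall b hb e he).symm) hc)

theorem connected_of_primitive (hD : IsThreeTranspositionGroup D)
    (hprim : IsPrimitiveUnderConj D) (hw : ∃ a ∈ D, ∃ b ∈ D, a ≠ b ∧ Commute a b) :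
    (commutingGraph D).Connected := by
  obtain ⟨a, ha, b, hb, hab, hc⟩ := hw
  have hadj : (commutingGraph D).Adj ⟨a, ha⟩ ⟨b, hb⟩ :=
    ⟨fun e => hab (congrArg Subtype.val e), .inl hc⟩
  let r : G → G → Prop := fun x y => ∃ (hx : x ∈ D) (hy : y ∈ D),
    (commutingGraph D).Reachable ⟨x, hx⟩ ⟨y, hy⟩
  have hmap : ∀ g : G, ∃ f : (commutingGraph D) →g (commutingGraph D),
      ∀ z : D, (f z : G) = g * z * g⁻¹ := fun g =>
    ⟨⟨fun z => ⟨g * z * g⁻¹, hD.2.1 g z z.2⟩, fun {x y} h =>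
      ⟨fun e => h.1 (Subtype.ext (mul_left_cancel (mul_right_cancel (congrArg Subtype.val e)))),
        h.2.imp (commute_conj g) (commute_conj g)⟩⟩, fun z => rfl⟩
  have hall := rel_all_of_primitive hD hprim r (fun x hx => ⟨hx, hx, .rfl⟩)
    (fun x _ y _ ⟨hx, hy, h⟩ => ⟨hy, hx, h.symm⟩)
    (fun x _ y _ z _ ⟨hx, _, h⟩ ⟨_, hz, h'⟩ => ⟨hx, hz, h.trans h'⟩)
    (fun g x _ y _ ⟨hx, hy, h⟩ => by
      obtain ⟨f, hf⟩ := hmap g
      refine ⟨hD.2.1 g x hx, hD.2.1 g y hy, ?_⟩
      have e1 : f ⟨x, hx⟩ = ⟨g * x * g⁻¹, hD.2.1 g x hx⟩ := Subtype.ext (hf _)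
      have e2 : f ⟨y, hy⟩ = ⟨g * y * g⁻¹, hD.2.1 g y hy⟩ := Subtype.ext (hf _)
      rw [← e1, ← e2]
      exact h.map f)
    ha hb ⟨ha, hb, hadj.reachable⟩ hab
  haveI : Nonempty D := ⟨⟨a, ha⟩⟩
  refine ⟨fun x y => ?_⟩
  obtain ⟨_, _, h1⟩ := hall x x.2
  obtain ⟨_, _, h2⟩ := hall y y.2
  exact h1.trans h2.symm

theorem exists_component_data (hD : IsThreeTranspositionClass D)
    (hD2 : ∃ a ∈ D, ∃ b ∈ D, a ≠ b) (h2 : pCore 2 G ≤ Subgroup.center G)
    (h3 : pCore 3 G ≤ Subgroup.center G) : ∃ L : Subgroup G, L.Normal ∧ IsQuasisimple L ∧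
      generalizedFittingSubgroup G = L ⊔ Subgroup.center G := by
  obtain ⟨L, hL⟩ : ∃ L : Subgroup G, Cfsg.IsComponent L := by
    by_contra! h
    exact layer_ne_bot hD hD2 h2 h3 (Components.layer_eq_bot_iff.2 h)
  have hlayer : Cfsg.layer G = L := le_antisymm (Components.layer_le_iff.2 fun M hM =>
    le_of_eq (component_unique hD hD2 h2 h3 hM hL)) (Components.component_le_layer hL)
  have hfit : Cfsg.fittingSubgroup G = Subgroup.center G :=
    le_antisymm (fitting_le_center hD h2 h3) center_le_fitting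
  exact ⟨L, component_normal hD hL, hL.2, by rw [generalizedFittingSubgroup, hlayer, hfit]⟩

theorem index_le_two_of_connected (hD : IsThreeTranspositionClass D) {L : Subgroup G} [L.Normal]
    (hL : IsQuasisimple L) (hconn : (commutingGraph D).Connected) : L.index ≤ 2 := by
  classical
  have hG := class_group hD
  have hLc : Cfsg.IsComponent L := ⟨Components.isSubnormal_of_normal L, hL⟩
  obtain ⟨d, hd, -⟩ := hD.2.1
  let π := QuotientGroup.mk' L
  have heq : ∀ x : D, π (x : G) = π d := fun x => by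
    suffices key : ∀ u v : D, (commutingGraph D).Walk u v → π (u : G) = π (v : G) by
      obtain ⟨w⟩ := hconn.preconnected x ⟨d, hd⟩
      exact key _ _ w
    intro u v w
    induction w with
    | nil => rfl
    | @cons u v _ h _ ih =>
      refine Eq.trans ?_ ih
      have hc : Commute (u : G) v := h.2.elim id Commute.symm
      refine QuotientGroup.eq.2 ?_
      rw [tt_inv hG.1 u.2]
      exact mul_mem_of_commute_component hD hLc u.2 v.2 hc
  have htop : ∀ c : G ⧸ L, c ∈ Subgroup.zpowers (π d) := fun c => by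
    obtain ⟨g, rfl⟩ := QuotientGroup.mk'_surjective L c
    have hle : Subgroup.closure D ≤ (Subgroup.zpowers (π d)).comap π :=
      (Subgroup.closure_le _).2 fun x hx => by
        show π x ∈ Subgroup.zpowers (π d)
        rw [heq ⟨x, hx⟩]; exact Subgroup.mem_zpowers _
    rw [hG.2.2] at hle
    exact hle (Subgroup.mem_top g)
  have hcard : Nat.card (G ⧸ L) ≤ orderOf (π d) := by
    rw [← Nat.card_zpowers]
    exact le_of_eq (Nat.card_congr (Equiv.subtypeUnivEquiv htop)).symm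
  rw [Subgroup.index_eq_card]
  refine hcard.trans (Nat.le_of_dvd (by norm_num) (orderOf_dvd_of_pow_eq_one ?_))
  rw [← map_pow, sq, tt_mul_self hG.1 hd, map_one]

theorem commutator_eq_of_index_le_two {L : Subgroup G} [L.Normal] (hL : IsQuasisimple L)
    (hidx : L.index ≤ 2) : commutator G = L := by
  refine le_antisymm ?_ ?_
  · rw [commutator_def, Subgroup.commutator_le]
    intro a _ b _
    refine (QuotientGroup.eq_one_iff _).1 ?_
    show QuotientGroup.mk' L ⁅a, b⁆ = 1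
    rw [map_commutatorElement, commutatorElement_eq_one_iff_commute]
    have hc : IsCyclic (G ⧸ L) := by
      have h0 := Subgroup.index_ne_zero_of_finite (H := L)
      rcases (by omega : L.index = 1 ∨ L.index = 2) with h | h
      · haveI : Subsingleton (G ⧸ L) := (Nat.card_eq_one_iff_unique.1 h).1
        infer_instance
      · haveI : Fact (Nat.Prime 2) := ⟨Nat.prime_two⟩
        exact isCyclic_of_prime_card h
    letI := @IsCyclic.commGroup _ _ hc
    exact mul_comm _ _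
  · conv_lhs => rw [← Components.isQuasisimple_commutator_eq_self hL]
    exact Subgroup.commutator_mono le_top le_top

theorem notMem_center (hD : IsThreeTranspositionClass D) (hD2 : ∃ a ∈ D, ∃ b ∈ D, a ≠ b) {d : G}
    (hd : d ∈ D) : d ∉ Subgroup.center G := by
  intro hc
  obtain ⟨e, he, hde⟩ := exists_not_commute hD hD2 hd
  exact hde (Subgroup.mem_center_iff.1 hc e).symm

theorem quotient_center_facts (hD : IsThreeTranspositionClass D)
    (hD2 : ∃ a ∈ D, ∃ b ∈ D, a ≠ b) (h2 : pCore 2 G ≤ Subgroup.center G) :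
    (∀ a ∈ D, ∀ b ∈ D, QuotientGroup.mk' (Subgroup.center G) a =
        QuotientGroup.mk' (Subgroup.center G) b → a = b) ∧
      (∀ a ∈ D, ∀ b ∈ D, Commute (QuotientGroup.mk' (Subgroup.center G) a)
        (QuotientGroup.mk' (Subgroup.center G) b) → Commute a b) ∧
      IsThreeTranspositionClass (QuotientGroup.mk' (Subgroup.center G) '' D) := by
  have hG := class_group hD
  set π := QuotientGroup.mk' (Subgroup.center G)
  have hinj : ∀ a ∈ D, ∀ b ∈ D, π a = π b → a = b := fun a ha b hb h =>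
    eq_of_mul_mem_center hD hD2 h2 ha hb (by
      have := QuotientGroup.eq.1 h
      rwa [tt_inv hG.1 ha] at this)
  obtain ⟨d, hd, hdc⟩ := hD.2.1
  have hset : IsThreeTranspositionSet (π '' D) := by
    refine ⟨?_, ?_⟩
    · rintro _ ⟨a, ha, rfl⟩
      exact orderOf_eq_prime (by rw [← map_pow, sq, tt_mul_self hG.1 ha, map_one]) fun h =>
        notMem_center hD hD2 ha ((QuotientGroup.eq_one_iff a).1 h)
    · rintro _ ⟨a, ha, rfl⟩ _ ⟨b, hb, rfl⟩
      rw [← map_mul, ← map_pow, ← map_pow]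
      exact (hG.1.2 a ha b hb).imp (fun h => by rw [h, map_one]) (fun h => by rw [h, map_one])
  refine ⟨hinj, fun a ha b hb h => ?_, hset, ⟨π d, ⟨d, hd, rfl⟩, ?_⟩, ?_⟩
  · by_contra hab
    have h3 := congrArg π (tt_noncommute_cube hG.1 ha hb hab)
    rw [map_one, map_pow, pow_succ, map_mul,
      (tt_commute_iff hset ⟨a, ha, rfl⟩ ⟨b, hb, rfl⟩).1 h, one_mul, ← map_mul] at h3
    exact hab (eq_of_mul_mem_center hD hD2 h2 ha hb ((QuotientGroup.eq_one_iff _).1 h3) ▸
      Commute.refl a)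
  · refine Set.ext fun x => ⟨?_, fun hx => ?_⟩
    · rintro ⟨a, ha, rfl⟩
      rw [hdc] at ha
      exact π.map_isConj ha
    · obtain ⟨g, rfl⟩ := isConj_iff.1 hx
      obtain ⟨g, rfl⟩ := QuotientGroup.mk'_surjective _ g
      exact ⟨g * d * g⁻¹, hG.2.1 g d hd, by rw [map_mul, map_mul, map_inv]⟩
  · rw [← MonoidHom.map_closure, hG.2.2, ← MonoidHom.range_eq_map,
      MonoidHom.range_eq_top.2 (QuotientGroup.mk'_surjective _)]

theorem setup_quotient (hD : IsThreeTranspositionClass D) (hD2 : ∃ a ∈ D, ∃ b ∈ D, a ≠ b)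
    (h2 : pCore 2 G ≤ Subgroup.center G) (h3 : pCore 3 G ≤ Subgroup.center G)
    {L : Subgroup G} [hn : L.Normal] (hL : IsQuasisimple L) (hidx : L.index ≤ 2) :
    Fischer.Setup (QuotientGroup.mk' (Subgroup.center G) '' D) := by
  set π := QuotientGroup.mk' (Subgroup.center G) with hπ
  have hcomm : commutator (G ⧸ Subgroup.center G) = L.map π := by
    rw [← commutator_eq_of_index_le_two hL hidx, commutator_def, commutator_def,
      Subgroup.map_commutator, ← MonoidHom.range_eq_map,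
      MonoidHom.range_eq_top.2 (QuotientGroup.mk'_surjective _)]
  have hZL : (Subgroup.center L).map L.subtype ≤ Subgroup.center G := by
    refine le_trans ?_ (fitting_le_center hD h2 h3)
    refine Components.le_fitting inferInstance ?_
    haveI : Group.IsNilpotent (Subgroup.center L) := @CommGroup.isNilpotent _
      { (inferInstance : Group (Subgroup.center L)) with
        mul_comm := fun a b => Subtype.ext (Subgroup.mem_center_iff.1 b.2 a) }
    exact Group.nilpotent_of_mulEquiv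
      ((Subgroup.center L).equivMapOfInjective L.subtype L.subtype_injective)
  have hker : (π.comp L.subtype).ker = Subgroup.center L := by
    ext x
    rw [MonoidHom.mem_ker]
    constructor
    · intro h
      refine Subgroup.mem_center_iff.2 fun y => Subtype.ext ?_
      exact Subgroup.mem_center_iff.1 ((QuotientGroup.eq_one_iff (x : G)).1 h) y
    · intro h
      exact (QuotientGroup.eq_one_iff (x : G)).2 (hZL ⟨x, h, rfl⟩)
  have e : (L ⧸ Subgroup.center L) ≃* commutator (G ⧸ Subgroup.center G) :=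
    ((QuotientGroup.quotientMulEquivOfEq hker.symm).trans
      (QuotientGroup.quotientKerEquivRange _)).trans (MulEquiv.subgroupCongr (by
        rw [hcomm, MonoidHom.range_comp, Subgroup.range_subtype]))
  haveI := hL.2
  refine ⟨(quotient_center_facts hD hD2 h2).2.2, e.symm.isSimpleGroup, ?_⟩
  by_contra! h
  refine Components.qs_quotient_not_isMulCommutative hL ⟨⟨fun a b => e.injective ?_⟩⟩
  rw [map_mul, map_mul]
  exact h _ _

theorem primitive_of_index_le_two (hD : IsThreeTranspositionClass D)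
    (hD2 : ∃ a ∈ D, ∃ b ∈ D, a ≠ b) (h2 : pCore 2 G ≤ Subgroup.center G)
    (h3 : pCore 3 G ≤ Subgroup.center G) {L : Subgroup G} [L.Normal] (hL : IsQuasisimple L)
    (hidx : L.index ≤ 2) : IsPrimitiveUnderConj D := by
  obtain ⟨hinj, -, -⟩ := quotient_center_facts hD hD2 h2
  have hG := class_group hD
  set π := QuotientGroup.mk' (Subgroup.center G)
  obtain ⟨-, -, hb⟩ := primitive_of_setup (setup_quotient hD hD2 h2 h3 hL hidx)
  refine ⟨fun a ha b hb => class_exists_conj hD ha hb, hD2, fun B hB hblock => ?_⟩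
  rcases hb (π '' B) (Set.image_mono hB) (fun g => by
    obtain ⟨g, rfl⟩ := QuotientGroup.mk'_surjective _ g
    have e : (fun x => π g * x * (π g)⁻¹) '' (π '' B) = π '' ((fun x => g * x * g⁻¹) '' B) := by
      rw [← Set.image_comp, ← Set.image_comp]
      exact Set.image_congr' fun x => by simp only [Function.comp_apply, map_mul, map_inv]
    rw [e]
    rcases hblock g with h | h
    · exact .inl (by rw [h])
    · refine .inr (Set.disjoint_left.2 ?_)
      rintro _ ⟨z, hz, rfl⟩ ⟨w, hw, hwz⟩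
      obtain ⟨u, hu, rfl⟩ := hz
      exact Set.disjoint_left.1 h ⟨u, hu, rfl⟩
        (show g * u * g⁻¹ ∈ B from (hinj _ (hB hw) _ (hG.2.1 g u (hB hu)) hwz).subst (motive := fun z => z ∈ B) hw)) with h | h
  · exact .inl fun x hx y hy => hinj x (hB hx) y (hB hy) (h ⟨x, hx, rfl⟩ ⟨y, hy, rfl⟩)
  · refine .inr (Set.Subset.antisymm hB fun x hx => ?_)
    obtain ⟨y, hy, hyx⟩ := (Set.ext_iff.1 h (π x)).2 ⟨x, hx, rfl⟩
    exact hinj y (hB hy) x hx hyx ▸ hy

theorem perp_maximal (hD : IsThreeTranspositionClass D) (hD2 : ∃ a ∈ D, ∃ b ∈ D, a ≠ b)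
    (h2 : pCore 2 G ≤ Subgroup.center G) (h3 : pCore 3 G ≤ Subgroup.center G)
    {L : Subgroup G} [L.Normal] (hL : IsQuasisimple L) (hidx : L.index ≤ 2) {d : G} (hd : d ∈ D)
    {H : Subgroup G} (hH : IsDSubgroup D H)
    (hle : Subgroup.closure {y : G | y ∈ D ∧ Commute d y} ≤ H) :
    H = Subgroup.closure {y : G | y ∈ D ∧ Commute d y} ∨ H = ⊤ := by
  have hG := class_group hD
  by_cases hall : ∀ x ∈ D, x ∈ H → Commute d x
  · left
    refine le_antisymm ?_ hle
    conv_lhs => rw [← hH]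
    exact Subgroup.closure_mono fun x hx => ⟨hx.1, hall x hx.1 hx.2⟩
  right
  push Not at hall
  obtain ⟨e, he, heH, hde⟩ := hall
  have hdH : d ∈ H := hle (Subgroup.subset_closure ⟨hd, Commute.refl d⟩)
  obtain ⟨hinj, hcom, -⟩ := quotient_center_facts hD hD2 h2
  set π := QuotientGroup.mk' (Subgroup.center G)
  set A := {x | ∃ k ∈ H, x = k * d * k⁻¹} with hA
  have hAD : A ⊆ D := by
    rintro _ ⟨k, -, rfl⟩
    exact hG.2.1 k d hd
  have hAH : A ⊆ H := by
    rintro _ ⟨k, hk, rfl⟩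
    exact mul_mem (mul_mem hk hdH) (inv_mem hk)
  have hnb : ∀ x ∈ A, ∀ y ∈ D, Commute x y → y ∈ H := by
    rintro _ ⟨k, hk, rfl⟩ y hy hc
    obtain ⟨y', hy', rfl⟩ := conj_rel_transfer hG k hy
    exact mul_mem (mul_mem hk (hle (Subgroup.subset_closure
      ⟨hy', (commute_conj_iff k d y').1 hc⟩))) (inv_mem hk)
  have hmv : ∀ x ∈ A, ∀ y ∈ D, y ∈ H → ¬ Commute x y → y ∈ A := by
    intro x hxA y hy hyH hn
    obtain ⟨k, hk, hxk⟩ := id hxA
    have hxH := hAH hxA
    refine ⟨x * y * k, mul_mem (mul_mem hxH hyH) hk, ?_⟩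
    have hx := hAD hxA
    rw [show x * y * k * d * (x * y * k)⁻¹ = x * y * (k * d * k⁻¹) * (x * y)⁻¹ by group, ← hxk,
      mul_inv_rev, tt_inv hG.1 hx, tt_inv hG.1 hy]
    calc y = (x * x) * y * (x * x) := by rw [tt_mul_self hG.1 hx, one_mul, mul_one]
      _ = x * (x * y * x) * x := by simp only [mul_assoc]
      _ = x * (y * x * y) * x := by rw [tt_braid hG.1 hx hy hn]
      _ = _ := by simp only [mul_assoc]
  have hdA : d ∈ A := ⟨1, one_mem H, by simp⟩
  have heA : e ∈ A := hmv d hdA e he heH hde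
  have hmod : Fischer.IsModule (π '' D) (π '' A) := by
    refine ⟨Set.image_mono hAD, ?_⟩
    rintro _ ⟨y, hy, rfl⟩ hyA _ ⟨x, hx, rfl⟩ _ ⟨x', hx', rfl⟩ hc
    by_contra hn
    have hyH := hnb x hx y hy (hcom y hy x (hAD hx) hc).symm
    exact hyA ⟨y, hmv x' hx' y hy hyH (fun h => hn (h.symm.map π)), rfl⟩
  have hne : π d ≠ π e := fun h => hde (hinj d hd e he h ▸ Commute.refl d)
  have hallD := Fischer.no_module (setup_quotient hD hD2 h2 h3 hL hidx) hmod
    ⟨d, hdA, rfl⟩ ⟨e, heA, rfl⟩ hne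
  refine eq_top_iff.2 (hG.2.2.symm.le.trans ((Subgroup.closure_le H).2 fun x hx => ?_))
  obtain ⟨y, hy, hyx⟩ := (Set.ext_iff.1 hallD (π x)).2 ⟨x, hx, rfl⟩
  exact hAH (hinj y (hAD hy) x hx hyx ▸ hy)

end Cfsg.Agent.Fischer3
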