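import Mathlib
import Cfsg.Prelude.Def_SporadicB
import Cfsg.Prelude.Def_FischerSpaces
import Cfsg.Agent.Lib.ClassK.ThreeTransp
import Cfsg.Agent.Lib.Basics.Cores
import Cfsg.Agent.Lib.InvChar.BrauerSuzuki
import Cfsg.Agent.Lib.Invol.ZStarApps

/-!
# Congruences of commuting on a set of 3-transpositions

A pairwise noncommuting set gives a 3-group of products; an invariant relation on `D` respecting
commuting gives a normal subgroup whose relation classes generate `p`-subgroups.
-/

set_option autoImplicit false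
set_option linter.unusedSectionVars false

namespace Cfsg.Agent.Fischer3

open Cfsg ClassK

universe u

variable {G : Type u} [Group G] [Finite G]

/-- The subgroup generated by the products of two members. -/
def prodSub (S : Set G) : Subgroup G := Subgroup.closure {g | ∃ x ∈ S, ∃ y ∈ S, x * y = g}

theorem mul_mem_prodSub {S : Set G} {x y : G} (hx : x ∈ S) (hy : y ∈ S) : x * y ∈ prodSub S :=
  Subgroup.subset_closure ⟨x, hx, y, hy, rfl⟩

theorem conj_mem_prodSub {S : Set G} {g : G} (hg : ∀ x ∈ S, g * x * g⁻¹ ∈ S) {a : G}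
    (ha : a ∈ prodSub S) : g * a * g⁻¹ ∈ prodSub S := by
  have h : prodSub S ≤ (prodSub S).comap (MulAut.conj g).toMonoidHom := by
    refine (Subgroup.closure_le _).2 ?_
    rintro _ ⟨x, hx, y, hy, rfl⟩
    show g * (x * y) * g⁻¹ ∈ prodSub S
    rw [show g * (x * y) * g⁻¹ = g * x * g⁻¹ * (g * y * g⁻¹) by group]
    exact mul_mem_prodSub (hg x hx) (hg y hy)
  exact h ha

theorem conj_closure_mem {S : Set G} (hS : IsThreeTranspositionSet S)
    (hconj : ∀ x ∈ S, ∀ y ∈ S, x * y * x⁻¹ ∈ S) {g : G} (hg : g ∈ Subgroup.closure S) :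
    ∀ s ∈ S, g * s * g⁻¹ ∈ S ∧ g⁻¹ * s * g ∈ S := by
  induction hg using Subgroup.closure_induction with
  | mem x hx =>
    intro s hs
    have h := hconj x hx s hs
    refine ⟨h, ?_⟩
    rw [tt_inv hS hx] at h ⊢
    exact h
  | one => simpa using fun s hs => hs
  | mul x y _ _ ihx ihy =>
    intro s hs
    constructor
    · rw [show x * y * s * (x * y)⁻¹ = x * (y * s * y⁻¹) * x⁻¹ by group]
      exact (ihx _ (ihy s hs).1).1
    · rw [show (x * y)⁻¹ * s * (x * y) = y⁻¹ * (x⁻¹ * s * x) * y by group]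
      exact (ihy _ (ihx s hs).2).2
  | inv x _ ih =>
    intro s hs
    rw [inv_inv]
    exact ⟨(ih s hs).2, (ih s hs).1⟩

/-- Products in a pairwise noncommuting set of 3-transpositions generate a 3-group. -/
theorem isPGroup_prodSub_three {S : Set G} (hS : IsThreeTranspositionSet S)
    (hconj : ∀ x ∈ S, ∀ y ∈ S, x * y * x⁻¹ ∈ S)
    (hnc : ∀ x ∈ S, ∀ y ∈ S, Commute x y → x = y) : IsPGroup 3 (prodSub S) := by
  rcases S.eq_empty_or_nonempty with rfl | ⟨a, ha⟩
  · rw [show prodSub (∅ : Set G) = ⊥ by simp [prodSub]]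
    exact IsPGroup.of_bot
  set K := Subgroup.closure S with hK
  let z : K := ⟨a, Subgroup.subset_closure ha⟩
  have hiso : IsIsolatedInvolution z := by
    refine ⟨by rw [← Subgroup.orderOf_coe]; exact hS.1 a ha, fun g hg => ?_⟩
    apply Subtype.ext
    exact (hnc a ha _ (conj_closure_mem hS hconj g.2 a ha).1 (hg.map K.subtype)).symm
  have hZ := InvChar.zstarHyp.{u}
  have hz2 := Invol.isolated_mul_self hiso
  have hsy : ∀ p : ℕ, ∀ _ : Fact p.Prime, ∃ P : Sylow p K,
      z ∈ Subgroup.normalizer ((P : Subgroup K) : Set K) := by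
    intro p _
    obtain ⟨Q, hQ⟩ := ({R : Subgroup K | IsPGroup p R ∧
      z ∈ Subgroup.normalizer (R : Set K)}).toFinite.exists_maximal
      ⟨⊥, IsPGroup.of_bot, by rw [Subgroup.normalizer_eq_top_iff.mpr inferInstance]; trivial⟩
    obtain ⟨P, hP⟩ := Invol.maximal_invariant_is_sylow hZ hiso Q hQ.1.1 hQ.1.2
      (fun R hR hzR hle => le_antisymm (hQ.2 ⟨hR, hzR⟩ hle) hle)
    exact ⟨P, hP ▸ hQ.1.2⟩
  set C := Subgroup.centralizer ({z} : Set K) with hC
  have hne : ∀ p : ℕ, p.Prime → p ≠ 3 → ¬ p ∣ C.index := by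
    intro p hp hp3
    haveI : Fact p.Prime := ⟨hp⟩
    suffices h : ∃ P : Sylow p K, (P : Subgroup K) ≤ C by
      obtain ⟨P, hP⟩ := h
      exact fun hd => P.not_dvd_index (hd.trans (Subgroup.index_dvd_of_le hP))
    by_cases h2 : p = 2
    · subst h2
      obtain ⟨P, hP⟩ := (IsPGroup.of_card (p := 2) (n := 1) (G := Subgroup.zpowers z)
        (by rw [Nat.card_zpowers, hiso.1, pow_one])).exists_le_sylow
      exact ⟨P, Invol.isolated_sylow_le_centralizer hiso P (hP (Subgroup.mem_zpowers z))⟩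
    · obtain ⟨P, hP⟩ := hsy p ‹_›
      refine ⟨P, fun x hx => Subgroup.mem_centralizer_singleton_iff.2 ?_⟩
      have hxz : (x * z * x⁻¹ : K).1 ∈ S := (conj_closure_mem hS hconj x.2 a ha).1
      have hmem : z * (x * z * x⁻¹) ∈ (P : Subgroup K) := by
        have h1 := (Subgroup.mem_normalizer_iff.1 hP x).1 hx
        rw [inv_eq_of_mul_eq_one_right hz2] at h1
        rw [show z * (x * z * x⁻¹) = z * x * z * x⁻¹ by group]
        exact mul_mem h1 (inv_mem hx)
      obtain ⟨k, hk⟩ := P.2 ⟨_, hmem⟩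
      have hk' : (z * (x * z * x⁻¹)) ^ p ^ k = 1 := congrArg Subtype.val hk
      have h1 : z * (x * z * x⁻¹) = 1 := by
        rcases hS.2 a ha _ hxz with h | h <;> refine orderOf_eq_one_iff.1
          (Nat.eq_one_of_dvd_coprimes ?_ (orderOf_dvd_of_pow_eq_one hk')
            (orderOf_dvd_of_pow_eq_one (Subtype.ext h)))
        · exact ((Nat.coprime_primes hp Nat.prime_two).2 h2).pow_left k
        · exact ((Nat.coprime_primes hp Nat.prime_three).2 hp3).pow_left k
      have h3 := inv_eq_of_mul_eq_one_right h1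
      rw [inv_eq_of_mul_eq_one_right hz2] at h3
      calc x * z = x * z * x⁻¹ * x := by group
        _ = z * x := by rw [← h3]
  haveI h3 : Fact (Nat.Prime 3) := ⟨Nat.prime_three⟩
  obtain ⟨P, hP⟩ := hsy 3 h3
  have hcard : C.relIndex (P : Subgroup K) = C.index := by
    have hr := (Invol.invariant_sylow_facts hZ hiso (by omega) P hP).1
    rw [← hC, Subgroup.inf_relIndex_right] at hr
    have e1 := Subgroup.relIndex_mul_index (inf_le_left : (P : Subgroup K) ⊓ C ≤ P)
    have e2 := Subgroup.relIndex_mul_index (inf_le_right : (P : Subgroup K) ⊓ C ≤ C)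
    rw [Subgroup.inf_relIndex_left] at e1
    rw [Subgroup.inf_relIndex_right] at e2
    obtain ⟨k, -, hk⟩ := (Nat.dvd_prime_pow Nat.prime_three).1
      ((Subgroup.relIndex_dvd_card C (P : Subgroup K)).trans (by rw [P.card_eq_multiplicity]))
    obtain ⟨j, hj⟩ : ∃ j, C.index = 3 ^ j :=
      ⟨_, Nat.eq_prime_pow_of_unique_prime_dvd Subgroup.index_ne_zero_of_finite
        fun {d} hd hdv => not_not.1 fun hd3 => hne d hd hd3 hdv⟩
    have hPi : Nat.Coprime (P : Subgroup K).index 3 :=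
      ((Nat.prime_three.coprime_iff_not_dvd).2 P.not_dvd_index).symm
    have hr' : Nat.Coprime ((P : Subgroup K).relIndex C) 3 :=
      ((Nat.prime_three.coprime_iff_not_dvd).2 hr).symm
    have h1 : C.relIndex (P : Subgroup K) ∣ (P : Subgroup K).relIndex C * C.index :=
      ⟨(P : Subgroup K).index, by rw [e2, e1]⟩
    have h2 : C.index ∣ C.relIndex (P : Subgroup K) * (P : Subgroup K).index :=
      ⟨(P : Subgroup K).relIndex C, by rw [e1, ← e2, mul_comm]⟩
    exact Nat.dvd_antisymm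
      (Nat.Coprime.dvd_of_dvd_mul_left (by rw [hk]; exact (hr'.pow_right k).symm) h1)
      (Nat.Coprime.dvd_of_dvd_mul_right (by rw [hj]; exact (hPi.pow_right j).symm) h2)
  have hfac : ∀ g : K, ∃ q ∈ (P : Subgroup K), q⁻¹ * g ∈ C := by
    let f : (P : Subgroup K) ⧸ C.subgroupOf (P : Subgroup K) → K ⧸ C :=
      Quotient.map' (fun x : (P : Subgroup K) => (x : K)) fun x y h => by
        rw [QuotientGroup.leftRel_apply] at h ⊢
        simpa [Subgroup.mem_subgroupOf] using h
    have hinj : Function.Injective f := by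
      intro x y
      induction x using QuotientGroup.induction_on with
      | H x =>
        induction y using QuotientGroup.induction_on with
        | H y =>
          intro h
          have h' : ((x : K) : K ⧸ C) = ((y : K) : K ⧸ C) := h
          rw [QuotientGroup.eq] at h' ⊢
          simpa [Subgroup.mem_subgroupOf] using h'
    have hbij := (Nat.bijective_iff_injective_and_card f).2 ⟨hinj, hcard⟩
    intro g
    obtain ⟨x, hx⟩ := hbij.2 (g : K ⧸ C)
    induction x using QuotientGroup.induction_on with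
    | H x =>
      refine ⟨x, x.2, ?_⟩
      have h' : ((x : K) : K ⧸ C) = (g : K ⧸ C) := hx
      exact QuotientGroup.eq.1 h'
  have hprod : ∀ s ∈ S, ∃ w : K, w ∈ (P : Subgroup K) ∧ (w : G) = a * s := by
    intro s hs
    obtain ⟨g, hg⟩ : ∃ g : K, (g * z * g⁻¹ : K).1 = s := by
      by_cases hc : Commute a s
      · exact ⟨1, by simpa [z] using hnc a ha s hs hc⟩
      refine ⟨⟨a * s, mul_mem (Subgroup.subset_closure ha) (Subgroup.subset_closure hs)⟩, ?_⟩
      show a * s * a * (a * s)⁻¹ = s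
      rw [mul_inv_rev, tt_inv hS hs, tt_inv hS ha]
      calc a * s * a * (s * a) = a * (s * a * s) * a := by simp only [mul_assoc]
        _ = a * (a * s * a) * a := by rw [tt_braid hS ha hs hc]
        _ = (a * a) * s * (a * a) := by simp only [mul_assoc]
        _ = s := by rw [tt_mul_self hS ha, one_mul, mul_one]
    obtain ⟨q, hq, hqc⟩ := hfac g
    refine ⟨z * (g * z * g⁻¹), ?_, by rw [Subgroup.coe_mul, hg]⟩
    have hc : q⁻¹ * g * z = z * (q⁻¹ * g) := Subgroup.mem_centralizer_singleton_iff.1 hqc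
    have e : g * z * g⁻¹ = q * z * q⁻¹ := by
      calc g * z * g⁻¹ = q * (q⁻¹ * g * z) * g⁻¹ := by group
        _ = q * (z * (q⁻¹ * g)) * g⁻¹ := by rw [hc]
        _ = q * z * q⁻¹ := by group
    rw [e, show z * (q * z * q⁻¹) = z * q * z⁻¹ * (z * z) * q⁻¹ by group, hz2, mul_one]
    exact mul_mem ((Subgroup.mem_normalizer_iff.1 hP q).1 hq) (inv_mem hq)
  refine (P.2.map K.subtype).to_le ((Subgroup.closure_le _).2 ?_)
  rintro _ ⟨x, hx, y, hy, rfl⟩
  obtain ⟨u, hu, hu'⟩ := hprod x hx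
  obtain ⟨v, hv, hv'⟩ := hprod y hy
  refine ⟨u⁻¹ * v, mul_mem (inv_mem hu) hv, ?_⟩
  show (u : G)⁻¹ * (v : G) = x * y
  rw [hu', hv']
  calc (a * x)⁻¹ * (a * y) = x⁻¹ * y := by group
    _ = x * y := by rw [tt_inv hS hx]

/-- Products in a pairwise commuting set of involutions generate a 2-group. -/
theorem isPGroup_prodSub_two {S : Set G} (hS : IsThreeTranspositionSet S)
    (hc : ∀ x ∈ S, ∀ y ∈ S, Commute x y) : IsPGroup 2 (prodSub S) := by
  have hcs : ∀ g ∈ prodSub S, ∀ s ∈ S, Commute g s := by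
    intro g hg
    induction hg using Subgroup.closure_induction with
    | mem g hg =>
      obtain ⟨x, hx, y, hy, rfl⟩ := hg
      exact fun s hs => (hc x hx s hs).mul_left (hc y hy s hs)
    | one => exact fun s _ => Commute.one_left s
    | mul x y _ _ ihx ihy => exact fun s hs => (ihx s hs).mul_left (ihy s hs)
    | inv x _ ih => exact fun s hs => (ih s hs).inv_left
  have hcc : ∀ g ∈ prodSub S, ∀ h ∈ prodSub S, Commute g h := by
    intro g hg h hh
    induction hh using Subgroup.closure_induction with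
    | mem h hh =>
      obtain ⟨x, hx, y, hy, rfl⟩ := hh
      exact (hcs g hg x hx).mul_right (hcs g hg y hy)
    | one => exact Commute.one_right g
    | mul x y _ _ ihx ihy => exact ihx.mul_right ihy
    | inv x _ ih => exact ih.inv_right
  have hsq : ∀ g ∈ prodSub S, g ^ 2 = 1 := by
    intro g hg
    induction hg using Subgroup.closure_induction with
    | mem g hg =>
      obtain ⟨x, hx, y, hy, rfl⟩ := hg
      rw [(hc x hx y hy).mul_pow, sq, sq, tt_mul_self hS hx, tt_mul_self hS hy, one_mul]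
    | one => exact one_pow 2
    | mul x y hx hy ihx ihy => rw [(hcc x hx y hy).mul_pow, ihx, ihy, one_mul]
    | inv x _ ih => rw [inv_pow, ih, inv_one]
  exact fun g => ⟨1, Subtype.ext (by rw [pow_one]; exact hsq g.1 g.2)⟩

theorem class_group {D : Set G} (hD : IsThreeTranspositionClass D) :
    IsThreeTranspositionGroup D := by
  refine ⟨hD.1, fun g x hx => ?_, hD.2.2⟩
  obtain ⟨d, -, hd⟩ := hD.2.1
  rw [hd] at hx ⊢
  obtain ⟨c, rfl⟩ := isConj_iff.1 hx
  exact isConj_iff.2 ⟨g * c, by group⟩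

theorem commute_conj (g : G) {x y : G} (h : Commute x y) :
    Commute (g * x * g⁻¹) (g * y * g⁻¹) := h.map (MulAut.conj g).toMonoidHom

theorem commute_conj_iff (g x y : G) :
    Commute (g * x * g⁻¹) (g * y * g⁻¹) ↔ Commute x y :=
  ⟨fun h => by simpa [mul_assoc] using commute_conj g⁻¹ h, commute_conj g⟩

theorem conj_eq_of_commute {x z : G} (hc : Commute x z) : x * z * x⁻¹ = z := by
  rw [hc.eq, mul_inv_cancel_right]

/-- The members related by `r` to one member differ by elements of the `p`-core. -/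
theorem rel_mem_pCore {D : Set G} (hD : IsThreeTranspositionGroup D) {p : ℕ} [Fact p.Prime]
    (r : G → G → Prop)
    (hrefl : ∀ x ∈ D, r x x) (hsymm : ∀ x ∈ D, ∀ y ∈ D, r x y → r y x)
    (htrans : ∀ x ∈ D, ∀ y ∈ D, ∀ z ∈ D, r x y → r y z → r x z)
    (hinv : ∀ g : G, ∀ x ∈ D, ∀ y ∈ D, r x y → r (g * x * g⁻¹) (g * y * g⁻¹))
    (hcong : ∀ x ∈ D, ∀ y ∈ D, ∀ z ∈ D, r x y → ¬ r z x → (Commute z x ↔ Commute z y))
    (hp : ∀ a ∈ D, IsPGroup p (prodSub {x | x ∈ D ∧ r x a}))
    {v d : G} (hv : v ∈ D) (hd : d ∈ D) (hvd : r v d) : v * d ∈ pCore p G := by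
  have cm := hD.2.1
  have hcc : ∀ g k x : G, g * (k * x * k⁻¹) * g⁻¹ = g * k * x * (g * k)⁻¹ :=
    fun g k x => by group
  let T : Subgroup G :=
    { carrier := {g | ∀ x ∈ D, r (g * x * g⁻¹) x}
      one_mem' := fun x hx => by simpa using hrefl x hx
      mul_mem' := fun {g k} hg hk x hx => by
        rw [← hcc]
        exact htrans _ (cm g _ (cm k x hx)) _ (cm g x hx) _ hx
          (hinv g _ (cm k x hx) _ hx (hk x hx)) (hg x hx)
      inv_mem' := fun {g} hg x hx => by
        have := hinv g⁻¹ _ (cm g x hx) _ hx (hg x hx)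
        rw [show g⁻¹ * (g * x * g⁻¹) * g⁻¹⁻¹ = x by group] at this
        exact hsymm _ hx _ (cm g⁻¹ x hx) this }
  have hT : ∀ g ∈ T, ∀ x ∈ D, r (g * x * g⁻¹) x := fun g hg => hg
  haveI hTn : T.Normal := ⟨fun g hg k x hx => by
    have h1 := hinv k _ (cm g _ (cm k⁻¹ x hx)) _ (cm k⁻¹ x hx) (hg _ (cm k⁻¹ x hx))
    have e1 : k * (g * (k⁻¹ * x * k⁻¹⁻¹) * g⁻¹) * k⁻¹ =
        k * g * k⁻¹ * x * (k * g * k⁻¹)⁻¹ := by group
    have e2 : k * (k⁻¹ * x * k⁻¹⁻¹) * k⁻¹ = x := by group
    rwa [e1, e2] at h1⟩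
  have hgen : ∀ a ∈ D, ∀ b ∈ D, r a b → a * b ∈ T := by
    intro a ha b hb hab z hz
    rw [← hcc]
    by_cases hza : r z a
    · have hzb : r z b := htrans _ hz _ ha _ hb hza hab
      have e1 := hinv b _ hz _ hb hzb
      rw [mul_inv_cancel_right] at e1
      have e2 : r (b * z * b⁻¹) a := htrans _ (cm b z hz) _ hb _ ha e1 (hsymm _ ha _ hb hab)
      have e3 := hinv a _ (cm b z hz) _ ha e2
      rw [mul_inv_cancel_right] at e3
      exact htrans _ (cm a _ (cm b z hz)) _ ha _ hz e3 (hsymm _ hz _ ha hza)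
    · by_cases hc : Commute z a
      · rw [conj_eq_of_commute ((hcong a ha b hb z hz hab hza).1 hc).symm,
          conj_eq_of_commute hc.symm]
        exact hrefl z hz
      · have hcb : ¬ Commute z b := fun e => hc ((hcong a ha b hb z hz hab hza).2 e)
        have e1 : b * z * b⁻¹ = z * b * z⁻¹ := by
          rw [tt_inv hD.1 hb, tt_inv hD.1 hz]; exact tt_braid hD.1 hb hz (fun e => hcb e.symm)
        have e2 : a * z * a⁻¹ = z * a * z⁻¹ := by
          rw [tt_inv hD.1 ha, tt_inv hD.1 hz]; exact tt_braid hD.1 ha hz (fun e => hc e.symm)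
        rw [e1]
        have e3 := hinv a _ (cm z b hb) _ (cm z a ha) (hinv z _ hb _ ha (hsymm _ ha _ hb hab))
        rw [← e2, hcc a a z, tt_mul_self hD.1 ha, one_mul, inv_one, mul_one] at e3
        exact e3
  set S := {x | x ∈ D ∧ r x d} with hS
  have hAT : prodSub S ≤ T := by
    refine (Subgroup.closure_le _).2 ?_
    rintro _ ⟨x, hx, y, hy, rfl⟩
    exact hgen x hx.1 y hy.1 (htrans _ hx.1 _ hd _ hy.1 hx.2 (hsymm _ hy.1 _ hd hy.2))
  haveI : ((prodSub S).subgroupOf T).Normal := ⟨fun a ha g => by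
    rw [Subgroup.mem_subgroupOf] at ha ⊢
    exact conj_mem_prodSub (S := S) (fun x hx => ⟨cm _ x hx.1,
      htrans _ (cm _ x hx.1) _ hx.1 _ hd (hT _ g.2 x hx.1) hx.2⟩) ha⟩
  have hle : (prodSub S).subgroupOf T ≤ pCore p T :=
    Basics.le_pCore ((hp d hd).of_equiv (Subgroup.subgroupOfEquivOfLe hAT).symm)
  have hM : (pCore p T).map T.subtype ≤ pCore p G :=
    Basics.le_pCore ((Basics.pCore_isPGroup p).map T.subtype)
  have hmem := mul_mem_prodSub (S := S) ⟨hv, hvd⟩ ⟨hd, hrefl d hd⟩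
  exact hM ⟨⟨v * d, hAT hmem⟩, hle (Subgroup.mem_subgroupOf.2 hmem), rfl⟩

/-- Equal commuting sets. -/
def RelV (D : Set G) (x y : G) : Prop := ∀ e ∈ D, Commute x e ↔ Commute y e

/-- Equal sets of other commuting members. -/
def RelW (D : Set G) (x y : G) : Prop :=
  ∀ e ∈ D, (e ≠ x ∧ Commute x e) ↔ (e ≠ y ∧ Commute y e)

variable {D : Set G}

theorem relV_comm {x y : G} (hx : x ∈ D) (h : RelV D x y) : Commute x y :=
  ((h x hx).1 (Commute.refl x)).symm

theorem relW_eq_of_commute {x y : G} (hy : y ∈ D) (h : RelW D x y) (hc : Commute x y) : x = y :=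
  not_not.1 fun hne => ((h y hy).1 ⟨fun e => hne e.symm, hc⟩).1 rfl

theorem conj_rel_transfer (hD : IsThreeTranspositionGroup D) (g : G) {e : G} (he : e ∈ D) :
    ∃ e' ∈ D, g * e' * g⁻¹ = e :=
  ⟨g⁻¹ * e * g⁻¹⁻¹, hD.2.1 g⁻¹ e he, by group⟩

/-- Members with equal commuting sets differ by an element of the 2-core. -/
theorem relV_mem_pCore (hD : IsThreeTranspositionGroup D) {v d : G} (hv : v ∈ D) (hd : d ∈ D)
    (h : RelV D v d) : v * d ∈ pCore 2 G := by
  refine rel_mem_pCore hD (RelV D) (fun x _ e _ => Iff.rfl)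
    (fun x _ y _ h e he => (h e he).symm) (fun x _ y _ z _ h h' e he => (h e he).trans (h' e he))
    ?_ ?_ ?_ hv hd h
  · intro g x _ y _ h e he
    obtain ⟨e', he', rfl⟩ := conj_rel_transfer hD g he
    rw [commute_conj_iff, commute_conj_iff]
    exact h e' he'
  · intro x _ y _ z hz h _
    exact ⟨fun e => ((h z hz).1 e.symm).symm, fun e => ((h z hz).2 e.symm).symm⟩
  · intro a _
    refine isPGroup_prodSub_two ⟨fun x hx => hD.1.1 x hx.1, fun x hx y hy => hD.1.2 x hx.1 y hy.1⟩
      fun x hx y hy => relV_comm hx.1 fun e he => (hx.2 e he).trans (hy.2 e he).symm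

/-- Members with equal sets of other commuting members differ by an element of the 3-core. -/
theorem relW_mem_pCore (hD : IsThreeTranspositionGroup D) {v d : G} (hv : v ∈ D) (hd : d ∈ D)
    (h : RelW D v d) : v * d ∈ pCore 3 G := by
  have hinv : ∀ g : G, ∀ x y : G, RelW D x y → RelW D (g * x * g⁻¹) (g * y * g⁻¹) := by
    intro g x y h e he
    obtain ⟨e', he', rfl⟩ := conj_rel_transfer hD g he
    simp only [commute_conj_iff, ne_eq, mul_left_inj, mul_right_inj]
    exact h e' he'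
  haveI : Fact (Nat.Prime 3) := ⟨Nat.prime_three⟩
  refine rel_mem_pCore hD (RelW D) (fun x _ e _ => Iff.rfl)
    (fun x _ y _ h e he => (h e he).symm) (fun x _ y _ z _ h h' e he => (h e he).trans (h' e he))
    (fun g x _ y _ h => hinv g x y h) ?_ ?_ hv hd h
  · intro x _ y _ z hz h hzx
    have h1 : z ≠ x := fun e => hzx (e ▸ fun e _ => Iff.rfl)
    have h2 : z ≠ y := fun e => hzx (e ▸ fun e he => (h e he).symm)
    have := h z hz
    exact ⟨fun e => (this.1 ⟨h1, e.symm⟩).2.symm, fun e => (this.2 ⟨h2, e.symm⟩).2.symm⟩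
  · intro a _
    refine isPGroup_prodSub_three
      ⟨fun x hx => hD.1.1 x hx.1, fun x hx y hy => hD.1.2 x hx.1 y hy.1⟩ (fun x hx y hy => ?_)
      fun x hx y hy hc => relW_eq_of_commute hy.1
        (fun e he => (hx.2 e he).trans (hy.2 e he).symm) hc
    refine ⟨hD.2.1 x y hy.1, fun e he => ?_⟩
    have h1 := hinv x y x (fun e he => (hy.2 e he).trans (hx.2 e he).symm) e he
    rw [mul_inv_cancel_right] at h1
    exact h1.trans (hx.2 e he)

end Cfsg.Agent.Fischer3
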