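import Mathlib

/-!
# Invariant complements for a 2-group of operators

If `σ` is an involutive automorphism, `U` an invariant normal 2-subgroup of 3-power index and every fixed
point modulo `U` lifts to a fixed point, then some Sylow 3-subgroup is invariant.
-/

set_option autoImplicit false
set_option linter.unusedSectionVars false

open scoped commutatorElement

namespace Cfsg.Agent.Fischer3

universe u

section Complement

variable {Q : Type u} [Group Q] [Finite Q] (σ : MulAut Q) (A : Subgroup Q) [A.Normal]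

theorem exists_invariant_complement (hσ : ∀ q, σ (σ q) = q) (hA : ∀ a ∈ A, σ a ∈ A)
    (hcomm : ∀ a ∈ A, ∀ b ∈ A, a * b = b * a) (hcop : (Nat.card A).Coprime A.index)
    (hlift : ∀ q : Q, q⁻¹ * σ q ∈ A → ∃ a ∈ A, σ (q * a) = q * a) :
    ∃ K : Subgroup Q, (∀ k ∈ K, σ k ∈ K) ∧ (∀ q : Q, ∃ a ∈ A, a * q ∈ K) ∧
      ∀ a ∈ A, a ∈ K → a = 1 := by
  classical
  haveI := Fintype.ofFinite (Q ⧸ A)
  have hcong : ∀ x y : Q, (x : Q ⧸ A) = y → ((σ x : Q) : Q ⧸ A) = ((σ y : Q) : Q ⧸ A) := by
    intro x y h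
    rw [QuotientGroup.eq] at h ⊢
    rw [← map_inv, ← map_mul]
    exact hA _ h
  let τ : Q ⧸ A → Q ⧸ A := fun c => ((σ c.out : Q) : Q ⧸ A)
  have hτ : ∀ x : Q, τ (x : Q ⧸ A) = ((σ x : Q) : Q ⧸ A) := fun x =>
    hcong _ _ (QuotientGroup.out_eq' _)
  have hττ : Function.Involutive τ := fun c => by
    induction c using QuotientGroup.induction_on with
    | H x =>
      calc τ (τ (x : Q ⧸ A)) = τ ((σ x : Q) : Q ⧸ A) := congrArg τ (hτ x)
        _ = _ := by rw [hτ, hσ]
  have hfix : ∀ c, τ c = c → ∃ x : Q, (x : Q ⧸ A) = c ∧ σ x = x := by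
    intro c hc
    obtain ⟨a, ha, hax⟩ := hlift c.out (QuotientGroup.eq.1
      (((QuotientGroup.out_eq' c).trans hc.symm)))
    refine ⟨c.out * a, ?_, hax⟩
    rw [← QuotientGroup.out_eq' c, QuotientGroup.eq, QuotientGroup.out_eq']
    simpa using inv_mem ha
  let ι : Q ⧸ A → ℕ := fun c => (Fintype.equivFin (Q ⧸ A) c : ℕ)
  have hι : Function.Injective ι := fun a b h => (Fintype.equivFin _).injective (Fin.ext h)
  let s : Q ⧸ A → Q := fun c =>
    if h : τ c = c then (hfix c h).choose else if ι c < ι (τ c) then c.out else σ (τ c).out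
  have hs : ∀ c, (s c : Q ⧸ A) = c := by
    intro c
    simp only [s]
    split_ifs with h1 h2
    · exact (hfix c h1).choose_spec.1
    · exact QuotientGroup.out_eq' c
    · rw [← hτ, QuotientGroup.out_eq', hττ]
  have hse : ∀ c, σ (s c) = s (τ c) := by
    intro c
    by_cases h1 : τ c = c
    · rw [h1]
      simp only [s, dif_pos h1]
      exact (hfix c h1).choose_spec.2
    · have h1' : ¬ τ (τ c) = τ c := fun h => h1 (hττ.injective h)
      simp only [s, dif_neg h1, dif_neg h1', hττ c]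
      rcases lt_or_gt_of_ne (fun h => h1 (hι h).symm : ι c ≠ ι (τ c)) with h2 | h2
      · rw [if_pos h2, if_neg (by omega)]
      · rw [if_neg (by omega), if_pos h2, hσ]
  letI : CommGroup A :=
    { (inferInstance : Group A) with mul_comm := fun a b => Subtype.ext (hcomm a a.2 b b.2) }
  have hsq : ∀ (q : Q) (x : Q), ((q * x : Q) : Q ⧸ A) = q • (x : Q ⧸ A) := fun q x => rfl
  have hmem : ∀ (q : Q) (c : Q ⧸ A), q * s c * (s (q • c))⁻¹ ∈ A := by
    intro q c
    have h : ((s (q • c) : Q) : Q ⧸ A) = ((q * s c : Q) : Q ⧸ A) := by rw [hs, hsq, hs]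
    rw [QuotientGroup.eq] at h
    have := (inferInstance : A.Normal).conj_mem _ h (s (q • c))
    simpa [mul_assoc] using this
  let f : Q → (Q ⧸ A) → A := fun q c => ⟨q * s c * (s (q • c))⁻¹, hmem q c⟩
  let F : Q → A := fun q => ∏ c, f q c
  have hF : ∀ q₁ q₂, F (q₁ * q₂) = MulAut.conjNormal q₁ (F q₂) * F q₁ := by
    intro q₁ q₂
    have e : ∀ c, f (q₁ * q₂) c = MulAut.conjNormal q₁ (f q₂ c) * f q₁ (q₂ • c) := fun c =>
      Subtype.ext (by
        simp only [f, Subgroup.coe_mul, MulAut.conjNormal_apply, mul_smul]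
        group)
    simp only [F]
    rw [Finset.prod_congr rfl (fun c _ => e c), Finset.prod_mul_distrib, map_prod]
    congr 1
    exact Equiv.prod_comp (MulAction.toPerm q₂) (f q₁)
  have hFA : ∀ a : A, F a = a ^ A.index := by
    intro a
    have e : ∀ c, f (a : Q) c = a := fun c => Subtype.ext (by
      have : (a : Q) • c = c := by
        induction c using QuotientGroup.induction_on with
        | H x =>
          rw [← hsq]
          exact QuotientGroup.eq.2 (by
            have := (inferInstance : A.Normal).conj_mem _ (inv_mem a.2) x⁻¹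
            simpa [mul_assoc] using this)
      simp [f, this, mul_assoc])
    simp only [F]
    rw [Finset.prod_congr rfl (fun c _ => e c), Finset.prod_const, Finset.card_univ,
      Subgroup.index_eq_card, Nat.card_eq_fintype_card]
  have hF1 : F 1 = 1 := by simpa using hFA 1
  let K : Subgroup Q :=
    { carrier := {q | F q = 1}
      one_mem' := hF1
      mul_mem' := fun {x y} hx hy => by
        show F (x * y) = 1
        rw [hF, show F y = 1 from hy, show F x = 1 from hx, map_one, one_mul]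
      inv_mem' := fun {x} hx => by
        have h := hF x⁻¹ x
        rw [inv_mul_cancel, hF1, show F x = 1 from hx, map_one, one_mul] at h
        exact h.symm }
  let σA : A →* A := ((σ.toMonoidHom).comp A.subtype).codRestrict A fun a => hA a a.2
  refine ⟨K, fun k hk => ?_, fun q => ?_, fun a ha hak => ?_⟩
  · have e : ∀ c, f (σ k) (τ c) = σA (f k c) := fun c => Subtype.ext (by
      induction c using QuotientGroup.induction_on with
      | H x =>
        show σ k * s (τ x) * (s (σ k • τ x))⁻¹ = σ (k * s x * (s (k • (x : Q ⧸ A)))⁻¹)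
        rw [map_mul, map_mul, map_inv, hse, hse, hτ, ← hsq, ← hsq, hτ, map_mul])
    show F (σ k) = 1
    have : F (σ k) = σA (F k) := by
      simp only [F]
      rw [map_prod, ← Finset.prod_congr rfl (fun c _ => e c)]
      exact (Equiv.prod_comp hττ.toPerm (f (σ k))).symm
    rw [this, show F k = 1 from hk, map_one]
  · obtain ⟨a, ha⟩ := (powCoprime hcop).surjective (F q)⁻¹
    refine ⟨a, a.2, ?_⟩
    show F ((a : Q) * q) = 1
    rw [hF, hFA, show a ^ A.index = (F q)⁻¹ from ha]
    have : MulAut.conjNormal (a : Q) (F q) = F q := Subtype.ext (by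
      rw [MulAut.conjNormal_apply, hcomm _ a.2 _ (F q).2, mul_inv_cancel_right])
    rw [this, mul_inv_cancel]
  · have h : F a = 1 := hak
    rw [hFA ⟨a, ha⟩] at h
    have := (powCoprime hcop).injective (a₁ := ⟨a, ha⟩) (a₂ := 1) (by simpa [powCoprime] using h)
    exact congrArg Subtype.val this

end Complement

theorem not_three_dvd_index_of_complement {H : Type u} [Group H] [Finite H] (K A : Subgroup H)
    (hA2 : IsPGroup 2 A) (hKsup : ∀ q : H, ∃ a ∈ A, a * q ∈ K) (hKA : ∀ a ∈ A, a ∈ K → a = 1) :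
    ¬ 3 ∣ K.index := by
  haveI : Fact (Nat.Prime 2) := ⟨Nat.prime_two⟩
  have hg : Function.Bijective fun a : A => ((a : H) : H ⧸ K) := by
    refine ⟨fun a b h => ?_, fun c => ?_⟩
    · exact Subtype.ext (inv_mul_eq_one.1
        (hKA _ (mul_mem (inv_mem a.2) b.2) (QuotientGroup.eq.1 h)))
    · induction c using QuotientGroup.induction_on with
      | H y =>
        obtain ⟨a, ha, hay⟩ := hKsup y
        exact ⟨⟨a⁻¹, inv_mem ha⟩, QuotientGroup.eq.2 (by simpa using hay)⟩
  rw [Subgroup.index_eq_card, ← Nat.card_congr (Equiv.ofBijective _ hg)]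
  obtain ⟨a, ha⟩ := hA2.exists_card_eq
  rw [ha]
  exact fun hd => absurd (Nat.prime_three.dvd_of_dvd_pow hd) (by norm_num)

set_option maxHeartbeats 1000000 in
theorem exists_invariant_sylow_aux : ∀ (n : ℕ) {Q : Type u} [Group Q] [Finite Q] (σ : MulAut Q),
    (∀ q, σ (σ q) = q) → ∀ (U : Subgroup Q) [U.Normal], Nat.card U = n → IsPGroup 2 U →
    (∀ x ∈ U, σ x ∈ U) → (∀ q : Q, ∃ k : ℕ, q ^ 3 ^ k ∈ U) →
    (∀ q : Q, q⁻¹ * σ q ∈ U → ∃ x ∈ U, σ (q * x) = q * x) →
    ∃ P : Sylow 3 Q, ∀ x ∈ P, σ x ∈ P := by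
  intro n
  induction n using Nat.strong_induction_on with
  | _ n ih =>
    intro Q _ _ σ hσ U _ hn hU hUσ hpow hlift
    haveI : Fact (Nat.Prime 2) := ⟨Nat.prime_two⟩
    haveI h3 : Fact (Nat.Prime 3) := ⟨Nat.prime_three⟩
    rcases U.bot_or_nontrivial with rfl | hne
    · have htop : IsPGroup 3 (⊤ : Subgroup Q) := fun q => by
        obtain ⟨k, hk⟩ := hpow q
        exact ⟨k, Subtype.ext (Subgroup.mem_bot.1 hk)⟩
      obtain ⟨P, hP⟩ := htop.exists_le_sylow
      exact ⟨P, fun x _ => hP (Subgroup.mem_top _)⟩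
    set V : Subgroup Q := ⁅U, U⁆ with hV
    have hVU : V ≤ U := Subgroup.commutator_le_right U U
    have hVlt : Nat.card V < n := by
      rw [← hn]
      refine lt_of_le_of_ne (Subgroup.card_le_of_le hVU) fun h => ?_
      have hEq : V = U := Subgroup.eq_of_le_of_card_ge hVU h.ge
      haveI := hU.isNilpotent
      haveI : Nontrivial U := hne
      have := Group.IsSolvable.commutator_lt_top_of_nontrivial U
      refine this.ne (Subgroup.map_injective U.subtype_injective ?_)
      rw [map_commutator_eq, Subgroup.range_subtype, ← MonoidHom.range_eq_map,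
        Subgroup.range_subtype]
      exact hEq
    have hVσ : ∀ x ∈ V, σ x ∈ V := fun x hx => by
      have h := Subgroup.mem_map_of_mem σ.toMonoidHom hx
      rw [hV, Subgroup.map_commutator] at h
      exact Subgroup.commutator_mono (Subgroup.map_le_iff_le_comap.2 hUσ)
        (Subgroup.map_le_iff_le_comap.2 hUσ) h
    let π := QuotientGroup.mk' V
    have hπ : Function.Surjective π := QuotientGroup.mk'_surjective V
    let σb : MulAut (Q ⧸ V) := QuotientGroup.congr V V σ
      (le_antisymm (Subgroup.map_le_iff_le_comap.2 hVσ) fun x hx => ⟨σ x, hVσ x hx, hσ x⟩)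
    have hσb : ∀ q, σb (π q) = π (σ q) := fun q => rfl
    have hσbb : ∀ c, σb (σb c) = c := fun c => by
      obtain ⟨q, rfl⟩ := hπ c
      rw [hσb, hσb, hσ]
    let A := U.map π
    haveI : A.Normal := Subgroup.Normal.map ‹_› π hπ
    have hA2 : IsPGroup 2 A := hU.map π
    have hcop : (Nat.card A).Coprime A.index := by
      obtain ⟨a, ha⟩ := hA2.exists_card_eq
      rw [ha]
      refine Nat.Coprime.pow_left _ ((Nat.prime_two.coprime_iff_not_dvd).2 fun hd => ?_)
      rw [Subgroup.index_eq_card] at hd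
      obtain ⟨c, hc⟩ := exists_prime_orderOf_dvd_card' 2 hd
      obtain ⟨x, rfl⟩ := QuotientGroup.mk'_surjective A c
      obtain ⟨q, rfl⟩ := hπ x
      obtain ⟨k, hk⟩ := hpow q
      have h1 : orderOf (QuotientGroup.mk' A (π q)) ∣ 3 ^ k := orderOf_dvd_of_pow_eq_one (by
        rw [← map_pow, ← map_pow]
        exact (QuotientGroup.eq_one_iff _).2 (Subgroup.mem_map_of_mem π hk))
      rw [hc] at h1
      exact absurd (Nat.prime_two.dvd_of_dvd_pow h1) (by norm_num)
    obtain ⟨K, hKσ, hKsup, hKA⟩ := exists_invariant_complement σb A hσbb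
      (by
        rintro _ ⟨x, hx, rfl⟩
        exact ⟨σ x, hUσ x hx, (hσb x).symm⟩)
      (by
        rintro _ ⟨a, ha, rfl⟩ _ ⟨b, hb, rfl⟩
        rw [← map_mul, ← map_mul]
        refine QuotientGroup.eq.2 ?_
        rw [show (a * b)⁻¹ * (b * a) = ⁅b⁻¹, a⁻¹⁆ by rw [commutatorElement_def]; group]
        exact Subgroup.commutator_mem_commutator (inv_mem hb) (inv_mem ha))
      hcop
      (by
        intro c hc
        obtain ⟨q, rfl⟩ := hπ c
        obtain ⟨x, hx, hxe⟩ : π (q⁻¹ * σ q) ∈ A := by rwa [map_mul, map_inv, ← hσb]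
        obtain ⟨y, hy, hye⟩ := hlift q (by
          have : x⁻¹ * (q⁻¹ * σ q) ∈ V := QuotientGroup.eq.1 hxe
          simpa using mul_mem hx (hVU this))
        exact ⟨π y, Subgroup.mem_map_of_mem π hy, by rw [← map_mul, hσb, hye]⟩)
    -- the fixed points
    let Fb : Subgroup (Q ⧸ V) := σb.toMonoidHom.eqLocus (MonoidHom.id _)
    let I : Subgroup (Q ⧸ V) := (σ.toMonoidHom.eqLocus (MonoidHom.id _)).map π
    have hK3 : IsPGroup 3 K := fun ⟨x, hx⟩ => by
      obtain ⟨q, rfl⟩ := hπ x
      obtain ⟨k, hk⟩ := hpow q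
      exact ⟨k, Subtype.ext (hKA _ (by rw [SubmonoidClass.coe_pow, Subgroup.coe_mk, ← map_pow]; exact ⟨_, hk, rfl⟩)
        (pow_mem hx _))⟩
    have hIF : I ≤ Fb := by
      rintro _ ⟨q, hq, rfl⟩
      show σb (π q) = π q
      rw [hσb]
      exact congrArg π hq
    obtain ⟨f, hf, hfI⟩ : ∃ f ∈ Fb, ∀ x ∈ K, x ∈ Fb → f * x * f⁻¹ ∈ I := by
      obtain ⟨T⟩ : Nonempty (Sylow 3 I) := inferInstance
      let T' : Subgroup (Q ⧸ V) := (T : Subgroup I).map I.subtype
      have hT'I : T' ≤ I := Subgroup.map_subtype_le _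
      obtain ⟨S, hS⟩ := ((T.2.map I.subtype).comap_subtype (K := Fb) :
        IsPGroup 3 (T'.subgroupOf Fb)).exists_le_sylow
      obtain ⟨S', hS'⟩ := ((hK3.to_le (inf_le_left : K ⊓ Fb ≤ K)).comap_subtype (K := Fb) :
        IsPGroup 3 ((K ⊓ Fb).subgroupOf Fb)).exists_le_sylow
      have hST : (S : Subgroup Fb).map Fb.subtype ≤ I := by
        have hle : T' ≤ (S : Subgroup Fb).map Fb.subtype := fun x hx =>
          ⟨⟨x, hIF (hT'I hx)⟩, hS hx, rfl⟩
        have hinj : Function.Injective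
            ((QuotientGroup.mk' A).comp ((S : Subgroup Fb).map Fb.subtype).subtype) := by
          rw [← MonoidHom.ker_eq_bot_iff, Subgroup.eq_bot_iff_forall]
          intro x hx
          apply Subtype.ext
          obtain ⟨a, ha⟩ := (hA2 ⟨x.1, (QuotientGroup.eq_one_iff _).1 hx⟩)
          obtain ⟨b, hb⟩ := ((S.2.map Fb.subtype) x)
          exact orderOf_eq_one_iff.1 (Nat.eq_one_of_dvd_coprimes
            (Nat.Coprime.pow a b (by norm_num : Nat.Coprime 2 3))
            (orderOf_dvd_of_pow_eq_one (congrArg Subtype.val ha))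
            (orderOf_dvd_of_pow_eq_one (congrArg Subtype.val hb)))
        have hrange : ((QuotientGroup.mk' A).comp ((S : Subgroup Fb).map Fb.subtype).subtype).range
            ≤ I.map (QuotientGroup.mk' A) := by
          rintro _ ⟨⟨_, ⟨⟨c, hc⟩, -, rfl⟩⟩, rfl⟩
          obtain ⟨q, rfl⟩ := hπ c
          have hq : π (σ q) = π q := hc
          obtain ⟨y, hy, hye⟩ := hlift q (hVU (QuotientGroup.eq.1 hq.symm))
          refine ⟨π (q * y), ⟨_, hye, rfl⟩, QuotientGroup.eq.2 ?_⟩
          show (π (q * y))⁻¹ * π q ∈ A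
          rw [← map_inv, ← map_mul]
          exact ⟨(q * y)⁻¹ * q, by simpa using inv_mem hy, rfl⟩
        have h1 : Nat.card ((S : Subgroup Fb).map Fb.subtype) ∣ Nat.card I := by
          rw [Nat.card_congr (MonoidHom.ofInjective hinj).toEquiv]
          exact (Subgroup.card_dvd_of_le hrange).trans (Subgroup.card_map_dvd _ _)
        obtain ⟨k, hk⟩ := (S.2.map Fb.subtype).exists_card_eq
        have h2 : Nat.card ((S : Subgroup Fb).map Fb.subtype) ≤ Nat.card T' := by
          rw [Subgroup.card_map_of_injective (f := I.subtype) I.subtype_injective,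
            T.card_eq_multiplicity, hk]
          rw [hk] at h1
          exact Nat.pow_le_pow_right (by norm_num)
            ((Nat.prime_three.pow_dvd_iff_le_factorization Nat.card_pos.ne').1 h1)
        rw [← Subgroup.eq_of_le_of_card_ge hle h2]
        exact hT'I
      obtain ⟨g, hg⟩ := MulAction.exists_smul_eq Fb S' S
      refine ⟨g, g.2, fun x hx hxF => hST ⟨g * ⟨x, hxF⟩ * g⁻¹, ?_, rfl⟩⟩
      rw [SetLike.mem_coe, ← hg]
      exact ⟨⟨x, hxF⟩, hS' (Subgroup.mem_subgroupOf.2 ⟨hx, hxF⟩), rfl⟩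
    let K1 : Subgroup Q := (K.map (MulAut.conj f).toMonoidHom).comap π
    have hK1σ : ∀ x ∈ K1, σ x ∈ K1 := by
      rintro x ⟨k, hk, hkx⟩
      refine ⟨σb k, hKσ k hk, ?_⟩
      show f * σb k * f⁻¹ = π (σ x)
      rw [← hσb, ← show f * k * f⁻¹ = π x from hkx, map_mul, map_mul, map_inv,
        show σb f = f from hf]
    have hVK1 : V ≤ K1 := fun x hx => by
      show π x ∈ K.map _
      rw [show π x = 1 from (QuotientGroup.eq_one_iff x).2 hx]
      exact one_mem _
    have hpow1 : ∀ q : K1, ∃ k : ℕ, q ^ 3 ^ k ∈ V.subgroupOf K1 := by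
      rintro ⟨q, hq⟩
      obtain ⟨k, hk⟩ := (hK3.map (MulAut.conj f).toMonoidHom) ⟨π q, hq⟩
      refine ⟨k, Subgroup.mem_subgroupOf.2 ?_⟩
      apply (QuotientGroup.eq_one_iff _).1
      have := congrArg Subtype.val hk
      simp only [SubmonoidClass.coe_pow, OneMemClass.coe_one] at this ⊢
      exact (map_pow π q _).trans this
    let σ1 : MulAut K1 := ((σ : Q ≃* Q).subgroupMap K1).trans (MulEquiv.subgroupCongr
      (le_antisymm (Subgroup.map_le_iff_le_comap.2 hK1σ) fun x hx => ⟨σ x, hK1σ x hx, hσ x⟩))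
    have hσ1 : ∀ x : K1, ((σ1 x : K1) : Q) = σ x := fun x => rfl
    obtain ⟨P, hP⟩ := ih (Nat.card (V.subgroupOf K1))
      (by rwa [Nat.card_congr (Subgroup.subgroupOfEquivOfLe hVK1).toEquiv]) σ1
      (fun x => Subtype.ext (by rw [hσ1, hσ1, hσ])) (V.subgroupOf K1) rfl
      ((hU.to_le hVU).of_equiv (Subgroup.subgroupOfEquivOfLe hVK1).symm)
      (fun x hx => by
        rw [Subgroup.mem_subgroupOf, hσ1]
        exact hVσ _ hx) hpow1
      (fun x hx => by
        rw [Subgroup.mem_subgroupOf, Subgroup.coe_mul, Subgroup.coe_inv, hσ1] at hx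
        obtain ⟨k, hk, hkx⟩ := (x.2 : π x ∈ K.map (MulAut.conj f).toMonoidHom)
        have hkx' : f * k * f⁻¹ = π x := hkx
        have hkF : k ∈ Fb := by
          have h1 : σb (π x) = π x := by rw [hσb]; exact (QuotientGroup.eq.2 hx).symm
          rw [← hkx', map_mul, map_mul, map_inv, show σb f = f from hf] at h1
          exact mul_left_cancel (mul_right_cancel h1)
        obtain ⟨r, hr, hrk⟩ := hfI k hk hkF
        have hv : (x : Q)⁻¹ * r ∈ V := QuotientGroup.eq.1 (hrk.trans hkx').symm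
        refine ⟨⟨(x : Q)⁻¹ * r, hVK1 hv⟩, Subgroup.mem_subgroupOf.2 hv, Subtype.ext ?_⟩
        rw [hσ1, Subgroup.coe_mul]
        have hr' : σ r = r := hr
        simpa using hr')
    -- a Sylow subgroup of `K1` is one of `Q`
    have hi2 : ¬ 3 ∣ K1.index := by
      have h1 : (K.map (MulAut.conj f).toMonoidHom).index = K.index :=
        Subgroup.index_map_of_bijective (MulAut.conj f).bijective K
      have h2 : K1.index = K.index := (Subgroup.index_comap_of_surjective _ hπ).trans h1
      rw [h2]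
      exact not_three_dvd_index_of_complement K A hA2 hKsup hKA
    have hidx : ¬ 3 ∣ ((P : Subgroup K1).map K1.subtype).index := by
      rw [Subgroup.index_map_subtype]
      exact fun hd => (Nat.prime_three.dvd_mul.1 hd).elim P.not_dvd_index hi2
    refine ⟨(P.2.map K1.subtype).toSylow hidx, ?_⟩
    rintro _ ⟨y, hy, rfl⟩
    exact ⟨σ1 y, hP y hy, hσ1 y⟩

theorem exists_invariant_sylow {Q : Type u} [Group Q] [Finite Q] (σ : MulAut Q)
    (hσ : ∀ q, σ (σ q) = q) (U : Subgroup Q) [U.Normal] (hU : IsPGroup 2 U)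
    (hUσ : ∀ x ∈ U, σ x ∈ U) (hpow : ∀ q : Q, ∃ k : ℕ, q ^ 3 ^ k ∈ U)
    (hlift : ∀ q : Q, q⁻¹ * σ q ∈ U → ∃ x ∈ U, σ (q * x) = q * x) :
    ∃ P : Sylow 3 Q, ∀ x ∈ P, σ x ∈ P :=
  exists_invariant_sylow_aux _ σ hσ U rfl hU hUσ hpow hlift

end Cfsg.Agent.Fischer3
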