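import Cfsg.Agent.Lib.Fischer3.Basic

/-!
# The two congruences are the orbits of the cores
-/

set_option autoImplicit false
set_option linter.unusedSectionVars false

namespace Cfsg.Agent.Fischer3

open Cfsg ClassK

universe u

variable {G : Type u} [Group G] [Finite G] {D : Set G}

theorem eq_one_of_isPGroup {p n : ℕ} {N : Subgroup G} (hN : IsPGroup p N) (hn : Nat.Coprime p n)
    {x : G} (hx : x ∈ N) (h : x ^ n = 1) : x = 1 := by
  obtain ⟨k, hk⟩ := hN ⟨x, hx⟩
  exact orderOf_eq_one_iff.1 (Nat.eq_one_of_dvd_coprimes (hn.pow_left k)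
    (orderOf_dvd_of_pow_eq_one (congrArg Subtype.val hk)) (orderOf_dvd_of_pow_eq_one h))

theorem eq_of_mul_mem_pGroup (hD : IsThreeTranspositionGroup D) {p : ℕ} {N : Subgroup G}
    (hN : IsPGroup p N) {a b : G} (ha : a ∈ D) (hb : b ∈ D) (hx : a * b ∈ N) {n : ℕ}
    (hn : Nat.Coprime p n) (h : (a * b) ^ n = 1) : a = b := by
  rw [← tt_inv hD.1 hb]
  exact eq_inv_of_mul_eq_one_left (eq_one_of_isPGroup hN hn hx h)

theorem mul_mem_comm (hD : IsThreeTranspositionGroup D) {N : Subgroup G} {a b : G} (ha : a ∈ D)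
    (hb : b ∈ D) (hx : a * b ∈ N) : b * a ∈ N := by
  have h := inv_mem hx
  rwa [mul_inv_rev, tt_inv hD.1 ha, tt_inv hD.1 hb] at h

/-- If `v ≡ d` modulo `N`, `e` commutes with `d` but not with `v`, then `e ≡ d` modulo `N`. -/
theorem mul_mem_of_commute (hD : IsThreeTranspositionGroup D) (N : Subgroup G) [N.Normal]
    {v d e : G} (hv : v ∈ D) (hd : d ∈ D) (he : e ∈ D) (hvd : v * d ∈ N) (hde : Commute d e)
    (hve : ¬ Commute v e) : d * e ∈ N := by
  have h3 := congrArg (QuotientGroup.mk' N) (tt_noncommute_cube hD.1 hv he hve)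
  have h2 := congrArg (QuotientGroup.mk' N) ((tt_commute_iff hD.1 hd he).1 hde)
  have hvd' : QuotientGroup.mk' N v = QuotientGroup.mk' N d := by
    have h : QuotientGroup.mk' N (v * d) = 1 := (QuotientGroup.eq_one_iff _).2 hvd
    rw [map_mul] at h
    rw [eq_inv_of_mul_eq_one_left h, ← map_inv, tt_inv hD.1 hd]
  simp only [map_pow, map_mul, map_one, hvd'] at h3 h2
  refine (QuotientGroup.eq_one_iff _).1 ?_
  change QuotientGroup.mk' N (d * e) = 1
  rw [map_mul]
  rwa [pow_succ, h2, one_mul] at h3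

theorem relV_iff (hD : IsThreeTranspositionGroup D) {v d : G} (hv : v ∈ D) (hd : d ∈ D) :
    RelV D v d ↔ d * v ∈ pCore 2 G := by
  refine ⟨fun h => mul_mem_comm hD hv hd (relV_mem_pCore hD hv hd h), fun h => ?_⟩
  have key : ∀ v ∈ D, ∀ d ∈ D, v * d ∈ pCore 2 G → ∀ e ∈ D, Commute d e → Commute v e := by
    intro v hv d hd h e he hde
    by_contra hve
    have hmem := mul_mem (mul_mem h (mul_mem_of_commute hD _ hv hd he h hde hve))
      (one_mem (pCore 2 G))
    rw [mul_one, mul_assoc v d, ← mul_assoc d d e, tt_mul_self hD.1 hd, one_mul] at hmem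
    exact hve (eq_of_mul_mem_pGroup hD (Basics.pCore_isPGroup 2) hv he hmem (by norm_num)
      (tt_noncommute_cube hD.1 hv he hve) ▸ Commute.refl e)
  intro e he
  exact ⟨key d hd v hv h e he, key v hv d hd (mul_mem_comm hD hd hv h) e he⟩

theorem relW_iff (hD : IsThreeTranspositionGroup D) {v d : G} (hv : v ∈ D) (hd : d ∈ D) :
    RelW D v d ↔ d * v ∈ pCore 3 G := by
  refine ⟨fun h => mul_mem_comm hD hv hd (relW_mem_pCore hD hv hd h), fun h => ?_⟩
  haveI : Fact (Nat.Prime 3) := ⟨Nat.prime_three⟩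
  have key : ∀ v ∈ D, ∀ d ∈ D, v * d ∈ pCore 3 G → ∀ e ∈ D, e ≠ d ∧ Commute d e →
      e ≠ v ∧ Commute v e := by
    intro v hv d hd h e he ⟨hne, hde⟩
    refine ⟨?_, ?_⟩
    · rintro rfl
      exact hne (eq_of_mul_mem_pGroup hD (Basics.pCore_isPGroup 3) he hd h (n := 2) (by norm_num)
        ((tt_commute_iff hD.1 he hd).1 hde.symm))
    · by_contra hve
      exact hne (eq_of_mul_mem_pGroup hD (Basics.pCore_isPGroup 3) hd he
        (mul_mem_of_commute hD _ hv hd he h hde hve) (n := 2) (by norm_num)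
        ((tt_commute_iff hD.1 hd he).1 hde)).symm
  intro e he
  exact ⟨key d hd v hv h e he, key v hv d hd (mul_mem_comm hD hd hv h) e he⟩

theorem inv_mul_mem_of_conj (hD : IsThreeTranspositionGroup D) {N : Subgroup G} [hN : N.Normal]
    {g d : G} (hd : d ∈ D) (hg : g ∈ N) : d * (g * d * g⁻¹) ∈ N := by
  rw [show d * (g * d * g⁻¹) = d * g * d * g⁻¹ by group]
  have h := hN.conj_mem g hg d
  rw [tt_inv hD.1 hd] at h
  exact mul_mem h (inv_mem hg)

theorem exists_not_commute (hD : IsThreeTranspositionClass D) (hD2 : ∃ a ∈ D, ∃ b ∈ D, a ≠ b)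
    {d : G} (hd : d ∈ D) : ∃ e ∈ D, ¬ Commute d e := by
  by_contra! hall
  have hz : ∀ g : G, g * d = d * g := by
    have h : Subgroup.closure D ≤ Subgroup.centralizer {d} :=
      (Subgroup.closure_le _).2 fun e he =>
        Subgroup.mem_centralizer_singleton_iff.2 (hall e he).eq.symm
    rw [hD.2.2] at h
    exact fun g => Subgroup.mem_centralizer_singleton_iff.1 (h (Subgroup.mem_top g))
  obtain ⟨c, -, hc⟩ := hD.2.1
  have h1 : ∀ x ∈ D, x = d := by
    intro x hx
    rw [hc] at hd hx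
    obtain ⟨g, hg⟩ := isConj_iff.1 ((IsConj.symm hd).trans hx)
    rw [← hg, hz g, mul_inv_cancel_right]
  obtain ⟨a, ha, b, hb, hab⟩ := hD2
  exact hab ((h1 a ha).trans (h1 b hb).symm)

theorem relV_orbit (hD : IsThreeTranspositionClass D) (hD2 : ∃ a ∈ D, ∃ b ∈ D, a ≠ b)
    {v d : G} (hv : v ∈ D) (hd : d ∈ D) (h : RelV D v d) :
    ∃ g ∈ pCore 2 G, v = g * d * g⁻¹ := by
  have hG := class_group hD
  by_cases hvd : v = d
  · exact ⟨1, one_mem _, by simp [hvd]⟩
  obtain ⟨e, he, hde⟩ := exists_not_commute hD hD2 hd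
  have hev : ¬ Commute e v := fun hc => hde ((h e he).1 hc.symm)
  have hdv : Commute v d := relV_comm hv h
  have ht := relV_mem_pCore hG hv hd h
  have hn : (pCore 2 G).Normal := inferInstance
  refine ⟨e * (v * d) * e⁻¹ * (v * d)⁻¹, mul_mem (hn.conj_mem _ ht e) (inv_mem ht), ?_⟩
  have hee := tt_mul_self hG.1 he
  have hdd := tt_mul_self hG.1 hd
  have hb := tt_braid hG.1 he hv hev
  have hb2 := tt_braid hG.1 hd he hde
  set t := v * d with ht'
  have htd : t * d = v := by rw [ht', mul_assoc, hdd, mul_one]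
  have hdt : d * t = v := by rw [ht', hdv.eq, ← mul_assoc, hdd, one_mul]
  have htt : t * t = 1 := by
    rw [ht', ← sq]; exact (tt_commute_iff hG.1 hv hd).1 hdv
  have htinv : t⁻¹ = t := inv_eq_of_mul_eq_one_right htt
  rw [tt_inv hG.1 he, htinv]
  simp only [mul_inv_rev, tt_inv hG.1 he, htinv]
  calc v = e * (e * v * e) * e := by
        rw [show e * (e * v * e) * e = (e * e) * v * (e * e) by simp only [mul_assoc], hee,
          one_mul, mul_one]
    _ = e * (v * e * v) * e := by rw [hb]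
    _ = e * ((t * d) * e * (d * t)) * e := by rw [htd, hdt]
    _ = e * (t * (d * e * d) * t) * e := by simp only [mul_assoc]
    _ = e * (t * (e * d * e) * t) * e := by rw [hb2]
    _ = e * t * e * d * (e * t * e) := by simp only [mul_assoc]
    _ = e * t * e * ((t * t) * d) * (e * t * e) := by rw [htt, one_mul]
    _ = e * t * e * (t * (d * t)) * (e * t * e) := by
        rw [mul_assoc t t d, htd, hdt]
    _ = _ := by simp only [mul_assoc]

theorem relW_orbit (hD : IsThreeTranspositionGroup D) {v d : G} (hv : v ∈ D) (hd : d ∈ D)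
    (h : RelW D v d) : ∃ g ∈ pCore 3 G, v = g * d * g⁻¹ := by
  by_cases hvd : v = d
  · exact ⟨1, one_mem _, by simp [hvd]⟩
  have hb := tt_braid hD.1 hv hd fun hc => hvd (relW_eq_of_commute hd h hc)
  refine ⟨d * v, mul_mem_comm hD hv hd (relW_mem_pCore hD hv hd h), ?_⟩
  rw [mul_inv_rev, tt_inv hD.1 hv, tt_inv hD.1 hd]
  calc v = (d * d) * v * (d * d) := by rw [tt_mul_self hD.1 hd, one_mul, mul_one]
    _ = d * (d * v * d) * d := by simp only [mul_assoc]
    _ = d * (v * d * v) * d := by rw [hb]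
    _ = _ := by simp only [mul_assoc]

end Cfsg.Agent.Fischer3
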