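import Cfsg.Agent.Lib.Fischer3.Width
import Cfsg.Agent.Lib.Fischer3.InvariantSylow

/-!
# Classes in which commuting members have equal commuting sets
-/

set_option autoImplicit false
set_option linter.unusedSectionVars false

namespace Cfsg.Agent.Fischer3

open Cfsg ClassK

universe u

variable {G : Type u} [Group G] [Finite G] {D : Set G}

theorem relV_of_commute (hD : IsThreeTranspositionClass D) {d : G} (hd : d ∈ D)
    (hV : {y : G | y ∈ D ∧ Commute d y} = {v : G | v ∈ D ∧ ∀ e ∈ D, Commute v e ↔ Commute d e})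
    {a b : G} (ha : a ∈ D) (hb : b ∈ D) (hab : Commute a b) : RelV D b a := by
  have hG := class_group hD
  obtain ⟨g, rfl⟩ : ∃ g : G, g * d * g⁻¹ = a := by
    obtain ⟨c, -, hc⟩ := hD.2.1
    rw [hc] at hd ha
    exact isConj_iff.1 ((IsConj.symm hd).trans ha)
  obtain ⟨y, hy, rfl⟩ := conj_rel_transfer hG g hb
  have hy' : RelV D y d :=
    ((Set.ext_iff.1 hV y).1 ⟨hy, (commute_conj_iff g d y).1 hab⟩).2
  intro e he
  obtain ⟨e', he', rfl⟩ := conj_rel_transfer hG g he
  rw [commute_conj_iff, commute_conj_iff]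
  exact hy' e' he'

theorem notMem_pCore_two (hD : IsThreeTranspositionClass D) (hD2 : ∃ a ∈ D, ∃ b ∈ D, a ≠ b)
    {a : G} (ha : a ∈ D) : a ∉ pCore 2 G := by
  intro h
  have hG := class_group hD
  obtain ⟨e, he, hae⟩ := exists_not_commute hD hD2 ha
  have hm : a * (e * a * e⁻¹) ∈ pCore 2 G :=
    mul_mem h ((inferInstance : (pCore 2 G).Normal).conj_mem a h e)
  have hc : e * a * e⁻¹ ∈ D := hG.2.1 e a ha
  have hne : ¬ Commute a (e * a * e⁻¹) := by
    intro hcm
    rw [tt_inv hG.1 he, ← tt_braid hG.1 ha he hae] at hcm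
    refine hae ?_
    have := commute_conj a hcm
    rwa [mul_inv_cancel_right, tt_inv hG.1 ha, show a * (a * e * a) * a = (a * a) * e * (a * a) by
      simp only [mul_assoc], tt_mul_self hG.1 ha, one_mul, mul_one] at this
  exact hne (eq_of_mul_mem_pGroup hG (Basics.pCore_isPGroup 2) ha hc hm (by norm_num)
    (tt_noncommute_cube hG.1 ha hc hne) ▸ Commute.refl a)

theorem perp_invariant_sylow (hD : IsThreeTranspositionClass D)
    (hD2 : ∃ a ∈ D, ∃ b ∈ D, a ≠ b) {d : G} (hd : d ∈ D)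
    (hrel : ∀ a ∈ D, ∀ b ∈ D, Commute a b → RelV D b a) :
    ∃ P : Sylow 3 G, d ∈ Subgroup.normalizer (P : Set G) ∧
      Subgroup.zpowers d ⊔ (P : Subgroup G) ⊔ pCore 2 G = ⊤ := by
  have hG := class_group hD
  haveI : Fact (Nat.Prime 3) := ⟨Nat.prime_three⟩
  set U := pCore 2 G with hU
  let π := QuotientGroup.mk' U
  have hπ : Function.Surjective π := QuotientGroup.mk'_surjective U
  have hDb : IsThreeTranspositionGroup (π '' D) := by
    refine ⟨⟨?_, ?_⟩, ?_, ?_⟩
    · rintro _ ⟨a, ha, rfl⟩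
      refine orderOf_eq_prime (by rw [← map_pow, sq, tt_mul_self hG.1 ha, map_one]) fun h => ?_
      exact notMem_pCore_two hD hD2 ha ((QuotientGroup.eq_one_iff a).1 h)
    · rintro _ ⟨a, ha, rfl⟩ _ ⟨b, hb, rfl⟩
      rw [← map_mul, ← map_pow, ← map_pow]
      exact (hG.1.2 a ha b hb).imp (fun h => by rw [h, map_one]) (fun h => by rw [h, map_one])
    · rintro g _ ⟨a, ha, rfl⟩
      obtain ⟨g, rfl⟩ := hπ g
      exact ⟨g * a * g⁻¹, hG.2.1 g a ha, by rw [map_mul, map_mul, map_inv]⟩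
    · rw [← MonoidHom.map_closure, hG.2.2, ← MonoidHom.range_eq_map,
        MonoidHom.range_eq_top.2 hπ]
  have hnc : ∀ x ∈ π '' D, ∀ y ∈ π '' D, Commute x y → x = y := by
    rintro _ ⟨a, ha, rfl⟩ _ ⟨b, hb, rfl⟩ hc
    have h2 := (tt_commute_iff hDb.1 ⟨a, ha, rfl⟩ ⟨b, hb, rfl⟩).1 hc
    have hmem : a * b ∈ U := by
      by_cases hab : Commute a b
      · exact (relV_iff hG hb ha).1 (hrel a ha b hb hab)
      · refine (QuotientGroup.eq_one_iff _).1 ?_
        have h3 := congrArg π (tt_noncommute_cube hG.1 ha hb hab)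
        rw [map_one, map_pow, pow_succ, map_mul, h2, one_mul, ← map_mul] at h3
        exact h3
    refine QuotientGroup.eq.2 ?_
    rwa [tt_inv hG.1 ha]
  have hdb : π d ∈ π '' D := ⟨d, hd, rfl⟩
  have htop := sup_pCore_eq_top_of_pairwise hDb hnc hdb
  let Q : Subgroup G := (pCore 3 (G ⧸ U)).comap π
  haveI hQn : Q.Normal := Subgroup.Normal.comap inferInstance π
  have hUQ : U ≤ Q := fun x hx => by
    show π x ∈ pCore 3 (G ⧸ U)
    rw [show π x = 1 from (QuotientGroup.eq_one_iff x).2 hx]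
    exact one_mem _
  have hcases : ∀ g : G, g ∈ Q ∨ d * g ∈ Q := by
    intro g
    obtain ⟨q, hq, n, hn, hgn⟩ := Subgroup.mem_sup_of_normal_right.1
      (htop ▸ Subgroup.mem_top (π g) : π g ∈ Subgroup.zpowers (π d) ⊔ pCore 3 (G ⧸ U))
    obtain ⟨k, rfl⟩ := Subgroup.mem_zpowers_iff.1 hq
    have hpow : π d ^ k = 1 ∨ π d ^ k = π d := by
      rw [← zpow_mod_orderOf, hDb.1.1 _ hdb]
      rcases Int.emod_two_eq_zero_or_one k with e | e <;> simp [e]
    rcases hpow with e | e <;> rw [e] at hgn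
    · left
      show π g ∈ pCore 3 (G ⧸ U)
      rwa [← hgn, one_mul]
    · right
      show π (d * g) ∈ pCore 3 (G ⧸ U)
      rwa [map_mul, ← hgn, ← mul_assoc, tt_mul_self hDb.1 hdb, one_mul]
  have hdQ : d * d ∈ Q := by rw [tt_mul_self hG.1 hd]; exact one_mem _
  have hindex : ¬ 3 ∣ Q.index := by
    rw [Subgroup.index_eq_card]
    intro h
    obtain ⟨c, hc⟩ := exists_prime_orderOf_dvd_card' 3 h
    obtain ⟨g, rfl⟩ := QuotientGroup.mk'_surjective Q c
    have h2 : QuotientGroup.mk' Q g ^ 2 = 1 := by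
      rcases hcases g with h | h
      · rw [show QuotientGroup.mk' Q g = 1 from (QuotientGroup.eq_one_iff g).2 h, one_pow]
      · have e : QuotientGroup.mk' Q (d * g) = 1 := (QuotientGroup.eq_one_iff _).2 h
        have e2 : QuotientGroup.mk' Q (d * d) = 1 := (QuotientGroup.eq_one_iff _).2 hdQ
        rw [map_mul] at e e2
        rw [eq_inv_of_mul_eq_one_right e, inv_pow, sq, e2, inv_one]
    have := orderOf_dvd_of_pow_eq_one h2
    rw [hc] at this
    norm_num at this
  let σ : MulAut Q := MulAut.conjNormal d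
  have hσ : ∀ q : Q, ((σ q : Q) : G) = d * q * d⁻¹ := fun q => rfl
  have hpow : ∀ q : Q, ∃ k : ℕ, q ^ 3 ^ k ∈ U.subgroupOf Q := by
    rintro ⟨q, hq⟩
    obtain ⟨k, hk⟩ := (Basics.pCore_isPGroup 3) ⟨π q, hq⟩
    refine ⟨k, Subgroup.mem_subgroupOf.2 ((QuotientGroup.eq_one_iff _).1 ?_)⟩
    have := congrArg Subtype.val hk
    simp only [SubmonoidClass.coe_pow, OneMemClass.coe_one] at this ⊢
    exact (map_pow π q _).trans this
  obtain ⟨P, hP⟩ := exists_invariant_sylow σ
    (fun q => Subtype.ext (by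
      rw [hσ, hσ, tt_inv hG.1 hd, show d * (d * q * d) * d = (d * d) * q * (d * d) by
        simp only [mul_assoc], tt_mul_self hG.1 hd, one_mul, mul_one]))
    (U.subgroupOf Q)
    ((Basics.pCore_isPGroup 2).of_equiv (Subgroup.subgroupOfEquivOfLe hUQ).symm)
    (fun x hx => (inferInstance : U.Normal).conj_mem _ hx d) hpow
    (fun q hq => by
      rw [Subgroup.mem_subgroupOf, Subgroup.coe_mul, Subgroup.coe_inv, hσ, tt_inv hG.1 hd] at hq
      set a := (q : G)⁻¹ * d * q with ha'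
      have ha : a ∈ D := by simpa [mul_assoc, ha'] using hG.2.1 (q : G)⁻¹ d hd
      have had : RelV D a d := by
        refine (relV_iff hG ha hd).2 (mul_mem_comm hG ha hd ?_)
        rw [ha']
        simpa [mul_assoc] using hq
      obtain ⟨x, hx, hxa⟩ := relV_orbit hD hD2 ha hd had
      refine ⟨⟨x, hUQ hx⟩, hx, Subtype.ext ?_⟩
      rw [hσ, Subgroup.coe_mul]
      rw [ha'] at hxa
      calc d * ((q : G) * x) * d⁻¹ = (q : G) * ((q : G)⁻¹ * d * q) * x * d⁻¹ := by group
        _ = (q : G) * x := by rw [hxa]; group)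
  have hidx : ¬ 3 ∣ ((P : Subgroup Q).map Q.subtype).index := by
    rw [Subgroup.index_map_subtype]
    exact fun hd => (Nat.prime_three.dvd_mul.1 hd).elim P.not_dvd_index hindex
  refine ⟨(P.2.map Q.subtype).toSylow hidx, ?_, ?_⟩
  · refine Subgroup.mem_normalizer_iff.2 fun x => ⟨?_, fun hx => ?_⟩
    · rintro ⟨y, hy, rfl⟩
      exact ⟨σ y, hP y hy, rfl⟩
    · obtain ⟨y, hy, hyx⟩ := hx
      refine ⟨σ y, hP y hy, ?_⟩
      show d * (y : G) * d⁻¹ = x
      rw [show (y : G) = d * x * d⁻¹ from hyx, tt_inv hG.1 hd,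
        show d * (d * x * d) * d = (d * d) * x * (d * d) by simp only [mul_assoc],
        tt_mul_self hG.1 hd, one_mul, mul_one]
  · set W := Subgroup.zpowers d ⊔ (P : Subgroup Q).map Q.subtype ⊔ U with hW
    show W = ⊤
    have hQW : Q ≤ W := by
      have hcop : Nat.Coprime (P : Subgroup Q).index (U.subgroupOf Q).index := by
        haveI : Fact (Nat.Prime 3) := ⟨Nat.prime_three⟩
        have h3 : IsPGroup 3 (Q ⧸ U.subgroupOf Q) := fun c => by
          obtain ⟨q, rfl⟩ := QuotientGroup.mk'_surjective _ c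
          obtain ⟨k, hk⟩ := hpow q
          exact ⟨k, (map_pow _ q _).symm.trans ((QuotientGroup.eq_one_iff _).2 hk)⟩
        obtain ⟨k, hk⟩ := h3.exists_card_eq
        rw [Subgroup.index_eq_card (U.subgroupOf Q), hk]
        exact (((Nat.prime_three.coprime_iff_not_dvd).2 P.not_dvd_index).symm).pow_right k
      have hsup : (P : Subgroup Q) ⊔ U.subgroupOf Q = ⊤ := by
        rw [← Subgroup.index_eq_one]
        exact Nat.eq_one_of_dvd_coprimes hcop (Subgroup.index_dvd_of_le le_sup_left)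
          (Subgroup.index_dvd_of_le le_sup_right)
      intro x hx
      have h : ((P : Subgroup Q) ⊔ U.subgroupOf Q).map Q.subtype ≤ W := by
        rw [Subgroup.map_sup]
        exact sup_le (le_sup_of_le_left le_sup_right)
          ((Subgroup.map_subgroupOf_eq_of_le hUQ).le.trans le_sup_right)
      exact h ⟨⟨x, hx⟩, hsup ▸ Subgroup.mem_top _, rfl⟩
    refine eq_top_iff.2 fun g _ => ?_
    rcases hcases g with h | h
    · exact hQW h
    · have := mul_mem (Subgroup.mem_sup_left (Subgroup.mem_sup_left (Subgroup.mem_zpowers d)) : d ∈ W) (hQW h)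
      rwa [← mul_assoc, tt_mul_self hG.1 hd, one_mul] at this

end Cfsg.Agent.Fischer3
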