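import Cfsg.Agent.Lib.Fischer3.Primitive

/-!
# Simplicity of the derived group and primitivity
-/

set_option autoImplicit false
set_option linter.unusedSectionVars false

open scoped commutatorElement

namespace Cfsg.Agent.Fischer3

open Cfsg ClassK

universe u

variable {G : Type u} [Group G] [Finite G] {D : Set G}

theorem isSimple_commutator_of_connected (hD : IsThreeTranspositionClass D)
    (hD2 : ∃ a ∈ D, ∃ b ∈ D, a ≠ b) (hZ : Subgroup.center G = ⊥) (h2 : pCore 2 G = ⊥)
    (h3 : pCore 3 G = ⊥) (hconn : (commutingGraph D).Connected) :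
    IsSimpleGroup (commutator G) := by
  have h2' : pCore 2 G ≤ Subgroup.center G := h2 ▸ bot_le
  have h3' : pCore 3 G ≤ Subgroup.center G := h3 ▸ bot_le
  obtain ⟨L, hn, hL, -⟩ := exists_component_data hD hD2 h2' h3'
  rw [commutator_eq_of_index_le_two hL (index_le_two_of_connected hD hL hconn)]
  have hc : Subgroup.center L = ⊥ := by
    refine (Subgroup.map_eq_bot_iff_of_injective _ L.subtype_injective).1 (le_bot_iff.1 ?_)
    rw [← hZ]
    refine le_trans ?_ (fitting_le_center hD h2' h3')
    refine Components.le_fitting inferInstance ?_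
    haveI : Group.IsNilpotent (Subgroup.center L) := @CommGroup.isNilpotent _
      { (inferInstance : Group (Subgroup.center L)) with
        mul_comm := fun a b => Subtype.ext (Subgroup.mem_center_iff.1 b.2 a) }
    exact Group.nilpotent_of_mulEquiv
      ((Subgroup.center L).equivMapOfInjective L.subtype L.subtype_injective)
  haveI := hL.2
  exact ((QuotientGroup.quotientMulEquivOfEq hc).trans QuotientGroup.quotientBot).symm.isSimpleGroup

theorem primitive_of_simple (hD : IsThreeTranspositionClass D) (hZ : Subgroup.center G = ⊥)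
    (hw : ∃ a ∈ D, ∃ b ∈ D, a ≠ b ∧ Commute a b) (hs : IsSimpleGroup (commutator G)) :
    IsPrimitiveUnderConj D := by
  have hG := class_group hD
  refine primitive_of_setup ⟨hD, hs, ?_⟩
  by_contra! hab
  obtain ⟨a, ha, b, hb, hne, hc⟩ := hw
  obtain ⟨g, hg⟩ := class_exists_conj hD ha hb
  have hmem : b * a ∈ commutator G := by
    have e : b * a = ⁅g, a⁆ := by rw [commutatorElement_def, ← hg, tt_inv hG.1 ha]
    rw [e, commutator_def]
    exact Subgroup.commutator_mem_commutator (Subgroup.mem_top g) (Subgroup.mem_top a)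
  have hne1 : b * a ≠ 1 := fun e => hne (by rw [eq_inv_of_mul_eq_one_left e, tt_inv hG.1 ha])
  have hsq := (tt_commute_iff hG.1 hb ha).1 hc.symm
  -- the derived group is an abelian simple group of order two
  let z : commutator G := ⟨b * a, hmem⟩
  have hz2 : z ^ 2 = 1 := Subtype.ext hsq
  haveI : (Subgroup.zpowers z).Normal := ⟨fun x hx y => by
    rw [hab y x, mul_inv_cancel_right]; exact hx⟩
  have htop : Subgroup.zpowers z = ⊤ :=
    (Subgroup.Normal.eq_bot_or_eq_top ‹_›).resolve_left fun e =>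
      hne1 (congrArg Subtype.val (Subgroup.zpowers_eq_bot.1 e))
  have hall : ∀ x : commutator G, x = 1 ∨ x = z := fun x => by
    obtain ⟨k, rfl⟩ := Subgroup.mem_zpowers_iff.1 (htop ▸ Subgroup.mem_top x :
      x ∈ Subgroup.zpowers z)
    have ho : orderOf z = 2 :=
      orderOf_eq_prime hz2 fun e => hne1 (congrArg Subtype.val e)
    rw [← zpow_mod_orderOf, ho]
    rcases Int.emod_two_eq_zero_or_one k with e | e <;> simp [e]
  have hzc : b * a ∈ Subgroup.center G := Subgroup.mem_center_iff.2 fun y => by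
    have hy := (inferInstance : (commutator G).Normal).conj_mem _ hmem y
    rcases hall ⟨_, hy⟩ with e | e <;> have e' := congrArg Subtype.val e
    · exact absurd (conj_eq_one_iff.1 e') hne1
    · exact mul_inv_eq_iff_eq_mul.1 e'
  rw [hZ] at hzc
  exact hne1 (Subgroup.mem_bot.1 hzc)

theorem simple_iff_primitive (hD : IsThreeTranspositionClass D) (hZ : Subgroup.center G = ⊥)
    (hw : ∃ a ∈ D, ∃ b ∈ D, a ≠ b ∧ Commute a b) :
    (IsSimpleGroup (commutator G) ↔ IsPrimitiveUnderConj D) ∧
      (IsPrimitiveUnderConj D ↔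
        (pCore 2 G = ⊥ ∧ pCore 3 G = ⊥ ∧ (commutingGraph D).Connected)) := by
  have h23 : IsPrimitiveUnderConj D →
      pCore 2 G = ⊥ ∧ pCore 3 G = ⊥ ∧ (commutingGraph D).Connected := fun hp => by
    obtain ⟨h2, h3⟩ := pCores_central_of_primitive (class_group hD) hp hw
    rw [hZ] at h2 h3
    exact ⟨le_bot_iff.1 h2, le_bot_iff.1 h3, connected_of_primitive (class_group hD) hp hw⟩
  have hD2 : ∃ a ∈ D, ∃ b ∈ D, a ≠ b := by
    obtain ⟨a, ha, b, hb, hne, -⟩ := hw
    exact ⟨a, ha, b, hb, hne⟩
  have h31 : pCore 2 G = ⊥ ∧ pCore 3 G = ⊥ ∧ (commutingGraph D).Connected →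
      IsSimpleGroup (commutator G) := fun ⟨h2, h3, hc⟩ =>
    isSimple_commutator_of_connected hD hD2 hZ h2 h3 hc
  exact ⟨⟨primitive_of_simple hD hZ hw, fun hp => h31 (h23 hp)⟩,
    ⟨h23, fun h => primitive_of_simple hD hZ hw (h31 h)⟩⟩

end Cfsg.Agent.Fischer3
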