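import Cfsg.Agent.Lib.Fischer3.Central

/-!
# The component of a group generated by a class of 3-transpositions
-/

set_option autoImplicit false
set_option linter.unusedSectionVars false

open scoped commutatorElement

namespace Cfsg.Agent.Fischer3

open Cfsg ClassK

universe u

variable {G : Type u} [Group G] [Finite G] {D : Set G}

/-- A non-abelian simple group has an element whose order exceeds three. -/
theorem orders_le_three_false {H : Type u} [Group H] [Finite H] [IsSimpleGroup H]
    (hna : ¬ IsMulCommutative H) (hord : ∀ h : H, h ^ 2 = 1 ∨ h ^ 3 = 1) : False := by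
  haveI : Fact (Nat.Prime 2) := ⟨Nat.prime_two⟩
  haveI : Fact (Nat.Prime 3) := ⟨Nat.prime_three⟩
  have hcent : Subgroup.center H = ⊥ := by
    refine (IsSimpleGroup.eq_bot_or_eq_top_of_normal _ inferInstance).resolve_right fun h => hna ?_
    exact ⟨⟨fun a b => Subgroup.mem_center_iff.1 (h ▸ Subgroup.mem_top b) a⟩⟩
  set I := {h : H | orderOf h = 2} with hI
  have hne : I.Nonempty := by
    by_contra hI0
    have h3 : IsPGroup 3 H := fun h => ⟨1, by
      rw [pow_one]
      rcases hord h with h2 | h2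
      · by_cases h1 : h = 1
        · rw [h1, one_pow]
        · exact absurd ⟨h, orderOf_eq_prime h2 h1⟩ hI0
      · exact h2⟩
    haveI : Nontrivial H := IsSimpleGroup.toNontrivial
    have := h3.center_nontrivial
    rw [hcent] at this
    exact not_nontrivial _ this
  have hsq : ∀ {s h : H}, s ∈ I → Commute s h → h ^ 2 = 1 := by
    intro s h hs hc
    refine (hord h).elim id fun h3 => ?_
    have hs2 : s ^ 2 = 1 := hs ▸ pow_orderOf_eq_one s
    rcases hord (s * h) with e | e <;> rw [hc.mul_pow] at e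
    · rwa [hs2, one_mul] at e
    · rw [h3, mul_one, pow_succ, hs2, one_mul] at e
      exact absurd e (Invol.ne_one_of_orderOf_two hs)
  have hgrp : IsThreeTranspositionGroup I := by
    refine ⟨⟨fun d hd => hd, fun d _ e _ => hord _⟩, fun g d hd => ?_, ?_⟩
    · exact (Invol.orderOf_conj g d).trans hd
    · haveI : (Subgroup.closure I).Normal := ⟨fun x hx g => by
        have h : Subgroup.closure I ≤ (Subgroup.closure I).comap (MulAut.conj g).toMonoidHom :=
          (Subgroup.closure_le _).2 fun s hs =>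
            Subgroup.subset_closure ((Invol.orderOf_conj g s).trans hs)
        exact h hx⟩
      refine (IsSimpleGroup.eq_bot_or_eq_top_of_normal _ inferInstance).resolve_left fun h => ?_
      obtain ⟨s, hs⟩ := hne
      have := Subgroup.subset_closure (G := H) hs
      rw [h] at this
      exact Invol.ne_one_of_orderOf_two hs this
  have hp2 : ∀ p, Nat.Prime p → pCore p H = ⊥ := fun p hp => by
    haveI := Fact.mk hp
    refine (IsSimpleGroup.eq_bot_or_eq_top_of_normal _ inferInstance).resolve_right fun h => ?_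
    have h' : IsPGroup p H := (h ▸ Basics.pCore_isPGroup (G := H) p : IsPGroup p (⊤ : Subgroup H)
      ).of_equiv Subgroup.topEquiv
    haveI : Nontrivial H := IsSimpleGroup.toNontrivial
    have := h'.center_nontrivial
    rw [hcent] at this
    exact not_nontrivial _ this
  -- commuting involutions have the same centralizer
  have hcomm : ∀ a ∈ I, ∀ b ∈ I, Commute a b → RelV I a b := by
    have key : ∀ a ∈ I, ∀ b : H, Commute a b → ∀ e, Commute a e → Commute b e := by
      intro a ha b hab e hae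
      have h1 := hsq ha hab
      have h2 := hsq ha hae
      have h3 := hsq ha (hab.mul_right hae)
      rw [sq] at h1 h2 h3
      have h4 := inv_eq_of_mul_eq_one_right h3
      rw [mul_inv_rev, inv_eq_of_mul_eq_one_right h1, inv_eq_of_mul_eq_one_right h2] at h4
      exact h4.symm
    exact fun a ha b hb hab e _ => ⟨key a ha b hab e, key b hb a hab.symm e⟩
  have heq : ∀ a ∈ I, ∀ b ∈ I, Commute a b → a = b := by
    intro a ha b hb hab
    have h := (relV_iff hgrp ha hb).1 (hcomm a ha b hb hab)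
    rw [hp2 2 Nat.prime_two, Subgroup.mem_bot] at h
    rw [← tt_inv hgrp.1 hb]
    exact (inv_eq_of_mul_eq_one_right h).symm
  obtain ⟨s, hs⟩ := hne
  haveI : (prodSub I).Normal :=
    ⟨fun x hx g => conj_mem_prodSub (fun t ht => hgrp.2.1 g t ht) hx⟩
  refine hna ⟨⟨fun x y => ?_⟩⟩
  have hz : ∀ t ∈ I, t = s := fun t ht => by
    have h : t * s ∈ pCore 3 H := Basics.le_pCore
      (isPGroup_prodSub_three hgrp.1 (fun x _ y hy => hgrp.2.1 x y hy) heq) (mul_mem_prodSub ht hs)
    rw [hp2 3 Nat.prime_three, Subgroup.mem_bot] at h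
    rw [eq_inv_of_mul_eq_one_left h, tt_inv hgrp.1 hs]
  have hsc : s ∈ Subgroup.center H := Subgroup.mem_center_iff.2 fun g => by
    have := hz _ (hgrp.2.1 g s hs)
    exact mul_inv_eq_iff_eq_mul.1 this
  rw [hcent] at hsc
  exact absurd (Subgroup.mem_bot.1 hsc) (Invol.ne_one_of_orderOf_two hs)

/-- Members congruent modulo the centre are equal when the 2-core is central. -/
theorem eq_of_mul_mem_center (hD : IsThreeTranspositionClass D)
    (hD2 : ∃ a ∈ D, ∃ b ∈ D, a ≠ b) (h2 : pCore 2 G ≤ Subgroup.center G) {a b : G} (ha : a ∈ D)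
    (hb : b ∈ D) (h : a * b ∈ Subgroup.center G) : a = b := by
  have hG := class_group hD
  have hab : b = a * (a * b) := by rw [← mul_assoc, tt_mul_self hG.1 ha, one_mul]
  have ha' : a = a * b * b := by rw [mul_assoc, tt_mul_self hG.1 hb, mul_one]
  have hV : RelV D a b := fun e _ => by
    have hz : Commute (a * b) e := (Subgroup.mem_center_iff.1 h e).symm
    exact ⟨fun hc => hab ▸ hc.mul_left hz, fun hc => ha'.symm ▸ hz.mul_left hc⟩
  obtain ⟨g, hg, rfl⟩ := relV_orbit hD hD2 ha hb hV
  rw [← Subgroup.mem_center_iff.1 (h2 hg) b, mul_inv_cancel_right]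

theorem component_not_central {L : Subgroup G} (hL : Cfsg.IsComponent L) :
    ¬ L ≤ Subgroup.center G := fun h =>
  Components.isQuasisimple_not_le_centralizer hL.2 fun x hx => by
    rw [Subgroup.mem_centralizer_iff]
    exact fun y _ => Subgroup.mem_center_iff.1 (h hx) y

theorem component_moved (hD : IsThreeTranspositionClass D) {L : Subgroup G} [hn : L.Normal]
    (hL : Cfsg.IsComponent L) {d : G} (hd : d ∈ D) : ∃ x ∈ L, ¬ Commute d x := by
  by_contra! h
  refine component_not_central hL fun x hx => mem_center_of_commute_all hD fun a ha => ?_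
  obtain ⟨g, rfl⟩ := class_exists_conj hD hd ha
  have := commute_conj g (h _ (hn.conj_mem x hx g⁻¹))
  rwa [show g * (g⁻¹ * x * g⁻¹⁻¹) * g⁻¹ = x by group] at this

/-- On a normal component both kinds of pairs of conjugates occur. -/
theorem component_pairs (hD : IsThreeTranspositionClass D) (hD2 : ∃ a ∈ D, ∃ b ∈ D, a ≠ b)
    (h2 : pCore 2 G ≤ Subgroup.center G) (h3 : pCore 3 G ≤ Subgroup.center G)
    {L : Subgroup G} [L.Normal] (hL : Cfsg.IsComponent L) {d : G} (hd : d ∈ D) :
    (∃ x ∈ L, x * d * x⁻¹ ≠ d ∧ Commute (x * d * x⁻¹) d) ∧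
      ∃ x ∈ L, ¬ Commute (x * d * x⁻¹) d := by
  have hG := class_group hD
  set S := {s | ∃ x ∈ L, s = x * d * x⁻¹} with hS
  have hSset : IsThreeTranspositionSet S := by
    refine ⟨?_, ?_⟩
    · rintro _ ⟨x, -, rfl⟩
      exact hG.1.1 _ (hG.2.1 x d hd)
    · rintro _ ⟨x, -, rfl⟩ _ ⟨y, -, rfl⟩
      exact hG.1.2 _ (hG.2.1 x d hd) _ (hG.2.1 y d hd)
  have hpair : ∀ x y : G, (x * d * x⁻¹ = y * d * y⁻¹ ↔ y⁻¹ * x * d * (y⁻¹ * x)⁻¹ = d) ∧
      (Commute (x * d * x⁻¹) (y * d * y⁻¹) ↔ Commute (y⁻¹ * x * d * (y⁻¹ * x)⁻¹) d) := by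
    intro x y
    have e : y * (y⁻¹ * x * d * (y⁻¹ * x)⁻¹) * y⁻¹ = x * d * x⁻¹ := by group
    refine ⟨⟨fun h => ?_, fun h => ?_⟩, ?_⟩
    · rw [← e] at h; exact mul_left_cancel (mul_right_cancel h)
    · rw [← e, h]
    · conv_lhs => rw [← e]
      exact commute_conj_iff y _ _
  have fin : ∀ (p : ℕ), Fact p.Prime → pCore p G ≤ Subgroup.center G →
      IsPGroup p (prodSub S) → False := by
    intro p _ hc hp
    obtain ⟨x, hx, hxd⟩ := component_moved hD hL hd
    refine hxd ?_
    have := eq_of_mul_mem_center hD hD2 h2 (hG.2.1 x d hd) hd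
      (hc (conj_mul_mem_pCore L hG hd hp hx))
    exact (mul_inv_eq_iff_eq_mul.1 this).symm
  refine ⟨?_, ?_⟩
  · by_contra! h
    refine fin 3 ⟨Nat.prime_three⟩ h3 (isPGroup_prodSub_three hSset ?_ ?_)
    · rintro _ ⟨x, hx, rfl⟩ _ ⟨y, hy, rfl⟩
      refine ⟨x * (d * (x⁻¹ * y) * d⁻¹), mul_mem hx ((inferInstance : L.Normal).conj_mem _
        (mul_mem (inv_mem hx) hy) d), ?_⟩
      simp only [mul_inv_rev, tt_inv hG.1 hd, inv_inv, mul_assoc]
      rw [← mul_assoc d d, tt_mul_self hG.1 hd, one_mul]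
    · rintro _ ⟨x, hx, rfl⟩ _ ⟨y, hy, rfl⟩ hc
      refine (hpair x y).1.2 ?_
      by_contra hne
      exact h _ (mul_mem (inv_mem hy) hx) hne ((hpair x y).2.1 hc)
  · by_contra! h
    refine fin 2 ⟨Nat.prime_two⟩ h2 (isPGroup_prodSub_two hSset ?_)
    rintro _ ⟨x, hx, rfl⟩ _ ⟨y, hy, rfl⟩
    exact (hpair x y).2.2 (h _ (mul_mem (inv_mem hy) hx))

/-- Every member of `D` normalizes every component. -/
theorem component_normal (hD : IsThreeTranspositionClass D) {L : Subgroup G}
    (hL : Cfsg.IsComponent L) : L.Normal := by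
  have hG := class_group hD
  suffices hmap : ∀ d ∈ D, L.map (MulAut.conj d).toMonoidHom = L by
    rw [← Subgroup.normalizer_eq_top_iff, eq_top_iff, ← hD.2.2, Subgroup.closure_le]
    intro d hd
    refine Subgroup.mem_normalizer_iff.2 fun x => ⟨fun hx => ?_, fun hx => ?_⟩
    · have := Subgroup.mem_map_of_mem (MulAut.conj d).toMonoidHom hx
      rw [hmap d hd] at this
      exact this
    · have := Subgroup.mem_map_of_mem (MulAut.conj d).toMonoidHom hx
      rw [hmap d hd] at this
      have e : d * (d * x * d⁻¹) * d⁻¹ = x := by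
        rw [tt_inv hG.1 hd, show d * (d * x * d) * d = (d * d) * x * (d * d) by
          simp only [mul_assoc], tt_mul_self hG.1 hd, one_mul, mul_one]
      rwa [show ((MulAut.conj d).toMonoidHom (d * x * d⁻¹)) = x from e] at this
  intro d hd
  by_contra hne
  have hM := Components.isComponent_conj d hL
  have hLM : ⁅L, L.map (MulAut.conj d).toMonoidHom⁆ = ⊥ :=
    (Components.component_eq_or_commute hL hM).resolve_left fun h => hne h.symm
  haveI := hL.2.2
  refine orders_le_three_false (Components.qs_quotient_not_isMulCommutative hL.2) fun c => ?_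
  obtain ⟨⟨x, hx⟩, rfl⟩ := QuotientGroup.mk'_surjective (Subgroup.center L) c
  set y := d * x⁻¹ * d⁻¹ with hy
  have hyM : y ∈ L.map (MulAut.conj d).toMonoidHom := ⟨x⁻¹, inv_mem hx, rfl⟩
  have hcomm : ∀ z ∈ L, ∀ w ∈ L.map (MulAut.conj d).toMonoidHom, Commute z w := fun z hz w hw =>
    (Subgroup.commutator_eq_bot_iff_le_centralizer.1 hLM hz w hw).symm
  have e : x * d * x⁻¹ * d = x * y := by
    rw [hy, tt_inv hG.1 hd]; simp only [mul_assoc]
  have key : ∀ n : ℕ, (x * d * x⁻¹ * d) ^ n = 1 →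
      (QuotientGroup.mk' (Subgroup.center L) ⟨x, hx⟩) ^ n = 1 := by
    intro n hn
    rw [e, (hcomm x hx y hyM).mul_pow] at hn
    rw [← map_pow]
    refine (QuotientGroup.eq_one_iff _).2 (Subgroup.mem_center_iff.2 fun w => Subtype.ext ?_)
    simp only [Subgroup.coe_mul, SubmonoidClass.coe_pow]
    rw [eq_inv_of_mul_eq_one_left hn]
    exact hcomm _ w.2 _ (inv_mem (pow_mem hyM n))
  exact (hG.1.2 _ (hG.2.1 x d hd) d hd).imp (key 2) (key 3)

/-- There is only one component. -/
theorem component_unique (hD : IsThreeTranspositionClass D) (hD2 : ∃ a ∈ D, ∃ b ∈ D, a ≠ b)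
    (h2 : pCore 2 G ≤ Subgroup.center G) (h3 : pCore 3 G ≤ Subgroup.center G) {L M : Subgroup G}
    (hL : Cfsg.IsComponent L) (hM : Cfsg.IsComponent M) : L = M := by
  have hG := class_group hD
  by_contra hne
  haveI := component_normal hD hL
  haveI := component_normal hD hM
  obtain ⟨d, hd, -⟩ := hD.2.1
  obtain ⟨x, hx, hxne, hxc⟩ := (component_pairs hD hD2 h2 h3 hL hd).1
  obtain ⟨y, hy, hyc⟩ := (component_pairs hD hD2 h2 h3 hM hd).2
  have hdd := tt_mul_self hG.1 hd
  have hmem : ∀ (N : Subgroup G) [N.Normal], ∀ z ∈ N, z * d * z⁻¹ * d ∈ N := fun N hN z hz => by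
    have := mul_mem hz (hN.conj_mem _ (inv_mem hz) d)
    rw [tt_inv hG.1 hd] at this
    simpa [mul_assoc] using this
  set a := x * d * x⁻¹
  set b := y * d * y⁻¹
  have haD : a ∈ D := hG.2.1 x d hd
  have hbD : b ∈ D := hG.2.1 y d hd
  have hgh : Commute (a * d) (b * d)⁻¹ := (Subgroup.commutator_eq_bot_iff_le_centralizer.1
    ((Components.component_eq_or_commute hL hM).resolve_left hne) (hmem L x hx) _
    (inv_mem (hmem M y hy))).symm
  have hg2 := (tt_commute_iff hG.1 haD hd).1 hxc
  have hh3 := tt_noncommute_cube hG.1 hbD hd hyc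
  have e : a * d * (b * d)⁻¹ = a * b := by
    rw [mul_inv_rev, tt_inv hG.1 hd, tt_inv hG.1 hbD, ← mul_assoc, mul_assoc a d d, hdd, mul_one]
  rcases hG.1.2 a haD b hbD with h | h <;> rw [← e, hgh.mul_pow, inv_pow] at h
  · rw [hg2, one_mul, inv_eq_one] at h
    exact hyc ((tt_commute_iff hG.1 hbD hd).2 h)
  · rw [hh3, inv_one, mul_one, pow_succ, hg2, one_mul] at h
    exact hxne (by rw [eq_inv_of_mul_eq_one_left h, tt_inv hG.1 hd])

theorem mul_mem_of_commute_component (hD : IsThreeTranspositionClass D) {L : Subgroup G}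
    [L.Normal] (hL : Cfsg.IsComponent L) {a b : G} (ha : a ∈ D) (hb : b ∈ D)
    (hab : Commute a b) : a * b ∈ L := by
  have hG := class_group hD
  by_contra hn
  set S := {s | ∃ x ∈ L, s = x * a * x⁻¹} with hS
  have hbS : ∀ s ∈ S, Commute b s := by
    rintro _ ⟨x, hx, rfl⟩
    by_contra hc
    refine hn ((QuotientGroup.eq_one_iff _).1 ?_)
    have h2 := congrArg (QuotientGroup.mk' L) ((tt_commute_iff hG.1 ha hb).1 hab)
    have h3 := congrArg (QuotientGroup.mk' L)
      (tt_noncommute_cube hG.1 (hG.2.1 x a ha) hb (fun h => hc h.symm))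
    have hx1 : QuotientGroup.mk' L x = 1 := (QuotientGroup.eq_one_iff _).2 hx
    simp only [map_pow, map_mul, map_inv, map_one, hx1, inv_one, one_mul, mul_one] at h2 h3
    rw [pow_succ, h2, one_mul] at h3
    change QuotientGroup.mk' L (a * b) = 1
    rw [map_mul]; exact h3
  have hnorm : L ≤ Subgroup.normalizer ((prodSub S ⊓ L : Subgroup G) : Set G) := by
    intro g hg
    have key : ∀ g ∈ L, ∀ z ∈ prodSub S ⊓ L, g * z * g⁻¹ ∈ prodSub S ⊓ L := by
      intro g hg z hz
      refine Subgroup.mem_inf.2 ⟨conj_mem_prodSub ?_ hz.1, mul_mem (mul_mem hg hz.2) (inv_mem hg)⟩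
      rintro _ ⟨x, hx, rfl⟩
      exact ⟨g * x, mul_mem hg hx, by group⟩
    refine Subgroup.mem_normalizer_iff.2 fun z => ⟨key g hg z, fun hz => ?_⟩
    have := key _ (inv_mem hg) _ hz
    rwa [show g⁻¹ * (g * z * g⁻¹) * g⁻¹⁻¹ = z by group] at this
  rcases Components.isQuasisimple_normalized_cases hL.2 hnorm with h | h
  · obtain ⟨x, hx, hxb⟩ := component_moved hD hL hb
    have hle : prodSub S ≤ Subgroup.centralizer {b} := (Subgroup.closure_le _).2 (by
      rintro _ ⟨s, hs, t, ht, rfl⟩
      exact Subgroup.mem_centralizer_singleton_iff.2 ((hbS s hs).mul_right (hbS t ht)).eq.symm)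
    exact hxb (Subgroup.mem_centralizer_singleton_iff.1 (hle (h hx).1)).symm
  · obtain ⟨x, hx, hxa⟩ := component_moved hD hL ha
    refine hxa (commute_of_perfect (N := prodSub S ⊓ L) (Components.isComponent_commutator_eq_self hL)
      ?_ (tt_mul_self hG.1 ha) (fun y hy => Subgroup.mem_inf.2 ⟨?_, ?_⟩) x hx)
    · rw [Subgroup.commutator_eq_bot_iff_le_centralizer]
      intro g hg z hz
      have h' := h ⟨hz, (Subgroup.mem_inf.1 hz).2⟩
      exact (h' g hg).symm
    · exact mul_mem_prodSub ⟨y, hy, rfl⟩ ⟨1, one_mem L, by simp⟩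
    · have := mul_mem hy ((inferInstance : L.Normal).conj_mem _ (inv_mem hy) a)
      rw [tt_inv hG.1 ha] at this
      simpa [mul_assoc] using this

end Cfsg.Agent.Fischer3
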