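import Mathlib
import Cfsg.Prelude.Def_FischerSpaces

/-!
# The involutions of a Fischer space
-/

set_option autoImplicit false
set_option linter.unusedSectionVars false

namespace Cfsg.Agent.Fischer3.Space

open Cfsg Cfsg.LineSystem

universe u v

variable {X : Type u} {L : Set (Set X)}

theorem line_eq_of_three (h3 : ∀ l ∈ L, l.ncard = 3) {l : Set X} (hl : l ∈ L) {x y : X}
    (hx : x ∈ l) (hy : y ∈ l) (hxy : x ≠ y) : ∃ z, z ≠ x ∧ z ≠ y ∧ l = {x, y, z} := by
  obtain ⟨a, b, c, hab, hac, hbc, rfl⟩ := Set.ncard_eq_three.1 (h3 l hl)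
  simp only [Set.mem_insert_iff, Set.mem_singleton_iff] at hx hy
  rcases hx with rfl | rfl | rfl <;> rcases hy with rfl | rfl | rfl <;>
    first
    | exact absurd rfl hxy
    | exact ⟨c, hac.symm, hbc.symm, rfl⟩
    | exact ⟨b, hab.symm, hbc, by rw [Set.pair_comm]⟩
    | exact ⟨c, hbc.symm, hac.symm, Set.insert_comm _ _ _⟩
    | exact ⟨a, hab, hac, by rw [Set.insert_comm]; congr 1; exact Set.pair_comm _ _⟩
    | exact ⟨b, hbc, hab.symm, by rw [Set.pair_comm b, Set.insert_comm]⟩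
    | exact ⟨a, hac, hab, by rw [Set.pair_comm, Set.insert_comm]; congr 1; exact Set.pair_comm _ _⟩

theorem lineMap_eq_third (hL : IsPartialLinear L) {x y z : X} (hzx : z ≠ x) (hzy : z ≠ y)
    (hxy : x ≠ y) (h : ({x, y, z} : Set X) ∈ L) : lineMap L x y = z := by
  classical
  have hex : ∃ w : X, w ≠ x ∧ w ≠ y ∧ x ≠ y ∧ ({x, y, w} : Set X) ∈ L := ⟨z, hzx, hzy, hxy, h⟩
  rw [lineMap, dif_pos hex]
  obtain ⟨hwx, hwy, -, hw⟩ := hex.choose_spec
  have e := hL _ hw _ h x y hxy (by simp) (by simp) (by simp) (by simp)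
  have : hex.choose ∈ ({x, y, z} : Set X) := e ▸ (by simp)
  simpa [hwx, hwy] using this

theorem lineMap_eq_self {x y : X}
    (h : ¬ ∃ z, z ≠ x ∧ z ≠ y ∧ x ≠ y ∧ ({x, y, z} : Set X) ∈ L) : lineMap L x y = y := by
  classical
  rw [lineMap, dif_neg h]

theorem lineMap_self (x : X) : lineMap L x x = x :=
  lineMap_eq_self fun ⟨_, _, _, h, _⟩ => h rfl

theorem lineMap_cases (x y : X) : (∃ z, z ≠ x ∧ z ≠ y ∧ x ≠ y ∧ ({x, y, z} : Set X) ∈ L) ∨
    lineMap L x y = y := by
  classical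
  by_cases h : ∃ z, z ≠ x ∧ z ≠ y ∧ x ≠ y ∧ ({x, y, z} : Set X) ∈ L
  · exact .inl h
  · exact .inr (lineMap_eq_self h)

theorem lineMap_involutive (hL : IsPartialLinear L) (x : X) :
    Function.Involutive (lineMap L x) := by
  intro y
  rcases lineMap_cases (L := L) x y with ⟨z, hzx, hzy, hxy, h⟩ | h
  · rw [lineMap_eq_third hL hzx hzy hxy h]
    exact lineMap_eq_third hL hxy.symm hzy.symm hzx.symm (by rwa [Set.pair_comm z y])
  · rw [h, h]

/-- The model rule transported along an embedding of a line system. -/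
theorem lineMap_map {Y : Type v} {M : Set (Set Y)} (hL : IsPartialLinear L)
    (g : Y → X) (hg : Function.Injective g) (hlines : ∀ k : Set Y, g '' k ∈ L ↔ k ∈ M)
    (hsub : ∀ l ∈ L, ∀ a b : Y, a ≠ b → g a ∈ l → g b ∈ l → l ⊆ Set.range g)
    (F : Y → Y → Y)
    (hF1 : ∀ a b, F a b ≠ b → a ≠ b ∧ F a b ≠ a ∧ ({a, b, F a b} : Set Y) ∈ M)
    (hF2 : ∀ a b c, a ≠ b → c ≠ a → c ≠ b → ({a, b, c} : Set Y) ∈ M → F a b ≠ b) (a b : Y) :
    lineMap L (g a) (g b) = g (F a b) := by
  by_cases hFb : F a b = b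
  · rw [hFb]
    refine lineMap_eq_self fun ⟨z, hzx, hzy, hxy, h⟩ => ?_
    have hab : a ≠ b := fun e => hxy (e ▸ rfl)
    obtain ⟨c, rfl⟩ := hsub _ h a b hab (by simp) (by simp) (show z ∈ ({g a, g b, z} : Set X) by simp)
    refine hF2 a b c hab (fun e => hzx (e ▸ rfl)) (fun e => hzy (e ▸ rfl)) ?_ hFb
    rw [← hlines]
    simpa [Set.image_insert_eq] using h
  · obtain ⟨hab, hFa, hmem⟩ := hF1 a b hFb
    refine lineMap_eq_third hL (hg.ne hFa) (hg.ne hFb) (hg.ne hab) ?_
    have := (hlines _).2 hmem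
    simpa [Set.image_insert_eq] using this

theorem image_line_model {Y : Type v} {M : Set (Set Y)} (hL : IsPartialLinear L)
    (g : Y → X) (hg : Function.Injective g) (hlines : ∀ k : Set Y, g '' k ∈ L ↔ k ∈ M)
    (hsub : ∀ l ∈ L, ∀ a b : Y, a ≠ b → g a ∈ l → g b ∈ l → l ⊆ Set.range g)
    (F : Y → Y → Y)
    (hF1 : ∀ a b, F a b ≠ b → a ≠ b ∧ F a b ≠ a ∧ ({a, b, F a b} : Set Y) ∈ M)
    (hF2 : ∀ a b c, a ≠ b → c ≠ a → c ≠ b → ({a, b, c} : Set Y) ∈ M → F a b ≠ b)
    (hF3 : ∀ a, ∀ k ∈ M, F a '' k ∈ M) {l : Set X} (hl : l ∈ L) {x : X}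
    (hlg : l ⊆ Set.range g) (hxg : x ∈ Set.range g) : lineMap L x '' l ∈ L := by
  obtain ⟨a, rfl⟩ := hxg
  obtain ⟨k, rfl⟩ : ∃ k : Set Y, g '' k = l := ⟨g ⁻¹' l, Set.image_preimage_eq_of_subset hlg⟩
  have e : lineMap L (g a) '' (g '' k) = g '' (F a '' k) := by
    rw [← Set.image_comp, ← Set.image_comp]
    exact Set.image_congr' fun b => lineMap_map hL g hg hlines hsub F hF1 hF2 a b
  rw [e, hlines]
  exact hF3 a k ((hlines k).1 hl)

theorem sub_affine : ∀ a b : Fin 2 → ZMod 3,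
    ({a, b, -a - b} : Set (Fin 2 → ZMod 3)) = {x | ∃ c : ZMod 3, x = a + c • (b - a)} := by
  intro a b
  have h3 : (3 : ZMod 3) = 0 := rfl
  ext x
  simp only [Set.mem_insert_iff, Set.mem_singleton_iff, Set.mem_setOf_eq]
  constructor
  · rintro (rfl | rfl | rfl)
    · exact ⟨0, by simp⟩
    · exact ⟨1, by simp⟩
    · exact ⟨2, funext fun i => by
        simp only [Pi.sub_apply, Pi.neg_apply, Pi.add_apply, Pi.smul_apply, smul_eq_mul]
        linear_combination (-b i : ZMod 3) * h3⟩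
  · rintro ⟨c, rfl⟩
    have hc : c = 0 ∨ c = 1 ∨ c = 2 := by revert c; decide
    rcases hc with rfl | rfl | rfl
    · simp
    · simp
    · exact .inr (.inr (funext fun i => by
        simp only [Pi.sub_apply, Pi.neg_apply, Pi.add_apply, Pi.smul_apply, smul_eq_mul]
        linear_combination (b i : ZMod 3) * h3))

/-- The rule of the dual affine plane of order two. -/
def dualRule (a b : DualAffinePoint) : DualAffinePoint :=
  if h : (symmDiff a.val b.val).card = 2 then ⟨symmDiff a.val b.val, h⟩ else b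

theorem dual_facts : (∀ a b : DualAffinePoint, dualRule a b ≠ b →
      a ≠ b ∧ dualRule a b ≠ a ∧
        ∃ i : Fin 4, ∀ s : DualAffinePoint, i ∉ s.val ↔ (s = a ∨ s = b ∨ s = dualRule a b)) ∧
    (∀ a b c : DualAffinePoint, a ≠ b → c ≠ a → c ≠ b →
      ∀ i : Fin 4, i ∉ a.val → i ∉ b.val → i ∉ c.val → dualRule a b ≠ b) ∧
    ∀ a : DualAffinePoint, ∀ i : Fin 4, ∃ j : Fin 4, ∀ s : DualAffinePoint,
      (∃ t : DualAffinePoint, i ∉ t.val ∧ dualRule a t = s) ↔ j ∉ s.val := by
  refine ⟨?_, ?_, ?_⟩ <;> decide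

theorem lineMap_image (hL : IsFischerSpace L) (x : X) {l : Set X} (hl : l ∈ L) :
    lineMap L x '' l ∈ L := by
  classical
  obtain ⟨hPL, h3, hplanes⟩ := hL
  by_cases hxl : x ∈ l
  · have : lineMap L x '' l = l := by
      obtain ⟨y, hy, hyx⟩ := Set.exists_ne_of_one_lt_ncard (by rw [h3 l hl]; norm_num) x
      obtain ⟨z, hzx, hzy, rfl⟩ := line_eq_of_three h3 hl hxl hy hyx.symm
      rw [Set.image_insert_eq, Set.image_insert_eq, Set.image_singleton, lineMap_self,
        lineMap_eq_third hPL hzx hzy hyx.symm hl,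
        lineMap_eq_third hPL hyx hzy.symm hzx.symm (by rwa [Set.pair_comm z y]), Set.pair_comm]
    rwa [this]
  by_cases hcol : ∃ y ∈ l, lineMap L x y ≠ y
  swap
  · push Not at hcol
    rwa [Set.image_congr hcol, Set.image_id']
  obtain ⟨y, hyl, hy⟩ := hcol
  obtain ⟨z, hzx, hzy, hxy, hm⟩ := (lineMap_cases (L := L) x y).resolve_right hy
  set m : Set X := {x, y, z}
  have hne : l ≠ m := fun e => hxl (e ▸ by simp [m])
  set S := span L (l ∪ m) with hS
  have hsubset : l ∪ m ⊆ S := fun p hp => Set.mem_sInter.2 fun T hT => hT.1 hp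
  have hsubspace : IsSubspace L S := by
    intro k hk p hp q hq hpq hpk hqk r hr
    exact Set.mem_sInter.2 fun T hT => hT.2 k hk p (Set.mem_sInter.1 hp T hT) q
      (Set.mem_sInter.1 hq T hT) hpq hpk hqk hr
  have key : ∀ {Y : Type} (M : Set (Set Y)), Isomorphic (restrict L S) M →
      ∃ g : Y → X, Function.Injective g ∧ (∀ k : Set Y, g '' k ∈ L ↔ k ∈ M) ∧
        (∀ n ∈ L, ∀ a b : Y, a ≠ b → g a ∈ n → g b ∈ n → n ⊆ Set.range g) ∧
        l ⊆ Set.range g ∧ x ∈ Set.range g := by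
    rintro Y M ⟨e, he⟩
    have hrange : Set.range (fun a => (e.symm a : X)) = S := by
      ext p
      exact ⟨fun ⟨a, ha⟩ => ha ▸ (e.symm a).2, fun hp => ⟨e ⟨p, hp⟩, by simp⟩⟩
    refine ⟨fun a => (e.symm a : X), Subtype.val_injective.comp e.symm.injective, fun k => ?_,
      fun n hn a b hab ha hb => ?_, ?_, ?_⟩
    · have hk : k = e '' (e.symm '' k) := by rw [Equiv.image_symm_image]
      have hk' : (fun a => (e.symm a : X)) '' k = Subtype.val '' (e.symm '' k) := by
        rw [← Set.image_comp]; rfl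
      rw [hk']
      conv_rhs => rw [hk]
      rw [← he]
      constructor
      · intro h
        refine ⟨_, h, Subtype.coe_image_subset _ _, Set.ext fun p => ?_⟩
        exact ⟨fun hp => ⟨p, hp, rfl⟩, fun ⟨q, hq, hqp⟩ => Subtype.ext hqp ▸ hq⟩
      · rintro ⟨n, hn, hnS, hpre⟩
        rw [hpre]
        convert hn using 1
        ext p
        exact ⟨fun ⟨q, hq, hqp⟩ => hqp ▸ hq, fun hp => ⟨⟨p, hnS hp⟩, hp, rfl⟩⟩
    · rw [hrange]
      exact hsubspace n hn _ (e.symm a).2 _ (e.symm b).2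
        (fun h => hab (e.symm.injective (Subtype.ext h))) ha hb
    · rw [hrange]; exact fun p hp => hsubset (.inl hp)
    · rw [hrange]; exact hsubset (.inr (by simp [m]))
  rcases hplanes l hl m hm hne ⟨y, hyl, by simp [m]⟩ with hiso | hiso
  · obtain ⟨g, hg, hlines, hsub, hlg, hxg⟩ := key _ hiso
    refine image_line_model hPL g hg hlines hsub dualRule ?_ ?_ ?_ hl hlg hxg
    · intro a b h
      obtain ⟨h1, h2, i, hi⟩ := dual_facts.1 a b h
      exact ⟨h1, h2, i, Set.ext fun s => by simpa using (hi s).symm⟩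
    · rintro a b c hab hca hcb ⟨i, hi⟩
      exact dual_facts.2.1 a b c hab hca hcb i ((Set.ext_iff.1 hi a).1 (by simp))
        ((Set.ext_iff.1 hi b).1 (by simp)) ((Set.ext_iff.1 hi c).1 (by simp))
    · rintro a _ ⟨i, rfl⟩
      obtain ⟨j, hj⟩ := dual_facts.2.2 a i
      exact ⟨j, Set.ext fun s => hj s⟩
  · obtain ⟨g, hg, hlines, hsub, hlg, hxg⟩ := key _ hiso
    have h30 : (3 : ZMod 3) = 0 := rfl
    have h3' : ∀ a b : Fin 2 → ZMod 3, -a - b = a → a = b := fun a b h => funext fun i => by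
      have e := congrFun h i
      simp only [Pi.sub_apply, Pi.neg_apply] at e
      linear_combination e + (a i) * h30
    refine image_line_model hPL g hg hlines hsub (fun a b => -a - b) ?_ ?_ ?_ hl hlg hxg
    · intro a b h
      have hab : a ≠ b := fun e => h (by
        subst e
        funext i
        simp only [Pi.sub_apply, Pi.neg_apply]
        linear_combination (-(a i)) * h30)
      refine ⟨hab, fun e => hab (h3' a b e), a, b - a, sub_ne_zero.2 hab.symm, sub_affine a b⟩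
    · intro a b c hab _ _ _ h
      exact hab (h3' b a (by rw [sub_eq_add_neg, add_comm, ← sub_eq_add_neg]; exact h)).symm
    · rintro a _ ⟨p, w, hw, rfl⟩
      refine ⟨-a - p, -w, neg_ne_zero.2 hw, Set.ext fun q => ⟨?_, ?_⟩⟩
      · rintro ⟨_, ⟨c, rfl⟩, rfl⟩
        exact ⟨c, by simp only [smul_neg]; abel⟩
      · rintro ⟨c, rfl⟩
        exact ⟨p + c • w, ⟨c, rfl⟩, by simp only [smul_neg]; abel⟩

theorem conj_lineMap (hL : IsFischerSpace L) (x y p : X) :
    lineMap L y (lineMap L x p) = lineMap L (lineMap L y x) (lineMap L y p) := by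
  have hinv := lineMap_involutive hL.1 y
  rcases lineMap_cases (L := L) x p with ⟨z, hzx, hzp, hxp, h⟩ | h
  · rw [lineMap_eq_third hL.1 hzx hzp hxp h]
    refine (lineMap_eq_third hL.1 (hinv.injective.ne hzx) (hinv.injective.ne hzp)
      (hinv.injective.ne hxp) ?_).symm
    have := lineMap_image hL y h
    simpa [Set.image_insert_eq] using this
  · rw [h]
    refine (lineMap_eq_self fun ⟨z, hzx, hzp, hxp, hm⟩ => ?_).symm
    have h1 := lineMap_image hL y hm
    simp only [Set.image_insert_eq, Set.image_singleton, hinv x, hinv p] at h1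
    have hzx' : lineMap L y z ≠ x := fun e => hzx (by rw [← e, hinv])
    have hzp' : lineMap L y z ≠ p := fun e => hzp (by rw [← e, hinv])
    rw [lineMap_eq_third hL.1 hzx' hzp' (fun e => hxp (e ▸ rfl)) h1] at h
    exact hzp' h

theorem main (hL : IsFischerSpace L) (hnd : IsNondegenerate L) :
    (∀ x : X, ∃ σ : Equiv.Perm X, ⇑σ = lineMap L x ∧ orderOf σ = 2 ∧ IsIso L L σ) ∧
      IsThreeTranspositionSet {σ : Equiv.Perm X | ∃ x : X, ⇑σ = lineMap L x} := by
  have hinv := lineMap_involutive hL.1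
  let t : X → Equiv.Perm X := fun x => (hinv x).toPerm
  have hsq : ∀ x, t x * t x = 1 := fun x => Equiv.ext (hinv x)
  have hord : ∀ x, orderOf (t x) = 2 := by
    intro x
    refine orderOf_eq_prime (by rw [sq, hsq]) fun e => ?_
    obtain ⟨l, hl, hxl⟩ := hnd x
    obtain ⟨y, hy, hyx⟩ := Set.exists_ne_of_one_lt_ncard (by rw [hL.2.1 l hl]; norm_num) x
    obtain ⟨z, hzx, hzy, rfl⟩ := line_eq_of_three hL.2.1 hl hxl hy hyx.symm
    have h1 : t x y = y := by rw [e]; rfl
    exact hzy ((lineMap_eq_third hL.1 hzx hzy hyx.symm hl).symm.trans h1)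
  refine ⟨fun x => ⟨t x, rfl, hord x, fun l => ⟨fun hl => lineMap_image hL x hl, fun hl => ?_⟩⟩, ?_, ?_⟩
  · have h := lineMap_image hL x hl
    rwa [show (lineMap L x '' (t x '' l)) = l by
      rw [← Set.image_comp]
      exact (Set.image_congr' (hinv x)).trans (Set.image_id' l)] at h
  · rintro σ ⟨x, hx⟩
    rw [show σ = t x from Equiv.ext (congrFun hx)]
    exact hord x
  · rintro σ ⟨x, hx⟩ τ ⟨y, hy⟩
    rw [show σ = t x from Equiv.ext (congrFun hx), show τ = t y from Equiv.ext (congrFun hy)]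
    have hc : ∀ u v, t v * t u * t v = t (lineMap L v u) := fun u v => Equiv.ext fun p => by
      show lineMap L v (lineMap L u (lineMap L v p)) = lineMap L (lineMap L v u) p
      rw [conj_lineMap hL u v, hinv v p]
    rcases lineMap_cases (L := L) y x with ⟨z, hzy, hzx, hyx, h⟩ | h
    · right
      have e1 : t y * t x * t y = t x * t y * t x := by
        rw [hc x y, hc y x, lineMap_eq_third hL.1 hzy hzx hyx h,
          lineMap_eq_third hL.1 hzx hzy hyx.symm (by rwa [Set.insert_comm x y])]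
      calc (t x * t y) ^ 3 = t x * t y * t x * (t y * t x * t y) := by
            simp only [pow_succ, pow_zero, one_mul, mul_assoc]
        _ = t x * (t y * (t x * t x) * t y) * (t x) := by rw [e1]; simp only [mul_assoc]
        _ = 1 := by rw [hsq x, mul_one, hsq y, mul_one, hsq x]
    · left
      have e := hc x y
      rw [h] at e
      rw [sq, mul_assoc, ← mul_assoc (t y), e, hsq x]

end Cfsg.Agent.Fischer3.Space
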