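import Cfsg.Agent.Lib.Fischer3.PerpClass

/-!
# Classes with perp sets of size two give the symmetric group of degree four
-/

set_option autoImplicit false
set_option linter.unusedSectionVars false

namespace Cfsg.Agent.Fischer3

open Cfsg ClassK

universe u

variable {G : Type u} [Group G] [Finite G] {D : Set G}

theorem perp_unique (hD : IsThreeTranspositionClass D) {d : G} (hd : d ∈ D)
    (hm : {y : G | y ∈ D ∧ Commute d y}.ncard = 2) {a x y : G} (ha : a ∈ D) (hx : x ∈ D)
    (hy : y ∈ D) (hxa : x ≠ a) (hya : y ≠ a) (hax : Commute a x) (hay : Commute a y) : x = y := by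
  have hG := class_group hD
  obtain ⟨g, rfl⟩ : ∃ g : G, g * d * g⁻¹ = a := by
    obtain ⟨c, -, hc⟩ := hD.2.1
    rw [hc] at hd ha
    exact isConj_iff.1 ((IsConj.symm hd).trans ha)
  obtain ⟨x', hx', rfl⟩ := conj_rel_transfer hG g hx
  obtain ⟨y', hy', rfl⟩ := conj_rel_transfer hG g hy
  by_contra hxy
  have h3 : ({d, x', y'} : Set G).ncard ≤ 2 := hm ▸ Set.ncard_le_ncard (by
    rintro z (rfl | rfl | rfl)
    · exact ⟨hd, Commute.refl _⟩
    · exact ⟨hx', (commute_conj_iff g d z).1 hax⟩
    · exact ⟨hy', (commute_conj_iff g d z).1 hay⟩) (Set.toFinite _)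
  rw [Set.ncard_insert_of_notMem, Set.ncard_pair (fun e => hxy (by rw [e]))] at h3
  · omega
  · rintro (rfl | rfl)
    · exact hxa rfl
    · exact hya rfl

theorem closure_pair_cases {d e : G} (hdd : d * d = 1) (hee : e * e = 1)
    (hb : d * e * d = e * d * e) {x : G} (hx : x ∈ Subgroup.closure ({d, e} : Set G)) :
    x = 1 ∨ x = d ∨ x = e ∨ x = e * d * e ∨ x = d * e ∨ x = e * d := by
  let P : G → Prop := fun x =>
    x = 1 ∨ x = d ∨ x = e ∨ x = e * d * e ∨ x = d * e ∨ x = e * d
  have cd : ∀ z, d * (d * z) = z := fun z => by rw [← mul_assoc, hdd, one_mul]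
  have ce : ∀ z, e * (e * z) = z := fun z => by rw [← mul_assoc, hee, one_mul]
  have hb' : d * (e * d) = e * (d * e) := by simpa [mul_assoc] using hb
  have hd' : ∀ z, P z → P (d * z) := by
    rintro z (rfl | rfl | rfl | rfl | rfl | rfl)
    · exact .inr (.inl (mul_one d))
    · exact .inl hdd
    · exact .inr (.inr (.inr (.inr (.inl rfl))))
    · refine .inr (.inr (.inr (.inr (.inr ?_))))
      rw [← hb, ← mul_assoc, ← mul_assoc, hdd, one_mul]
    · exact .inr (.inr (.inl (cd e)))
    · exact .inr (.inr (.inr (.inl (by rw [hb', mul_assoc]))))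
  have he' : ∀ z, P z → P (e * z) := by
    rintro z (rfl | rfl | rfl | rfl | rfl | rfl)
    · exact .inr (.inr (.inl (mul_one e)))
    · exact .inr (.inr (.inr (.inr (.inr rfl))))
    · exact .inl hee
    · exact .inr (.inr (.inr (.inr (.inl (by rw [mul_assoc, ce])))))
    · exact .inr (.inr (.inr (.inl (mul_assoc e d e).symm)))
    · exact .inr (.inl (ce d))
  have key : ∀ g ∈ Subgroup.closure ({d, e} : Set G), ∀ z, P z → P (g * z) ∧ P (g⁻¹ * z) := by
    intro g hg
    induction hg using Subgroup.closure_induction with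
    | mem g hg =>
      intro z hz
      rcases hg with rfl | rfl
      · exact ⟨hd' z hz, by rw [inv_eq_of_mul_eq_one_right hdd]; exact hd' z hz⟩
      · exact ⟨he' z hz, by rw [inv_eq_of_mul_eq_one_right hee]; exact he' z hz⟩
    | one => simpa using fun z hz => hz
    | mul g k _ _ ihg ihk =>
      intro z hz
      rw [mul_inv_rev, mul_assoc, mul_assoc]
      exact ⟨(ihg _ (ihk z hz).1).1, (ihk _ (ihg z hz).2).2⟩
    | inv g _ ih =>
      intro z hz
      rw [inv_inv]
      exact ⟨(ih z hz).2, (ih z hz).1⟩
  simpa [P] using (key x hx 1 (.inl rfl)).1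

theorem perp_two_sym_four (hD : IsThreeTranspositionClass D) (hD2 : ∃ a ∈ D, ∃ b ∈ D, a ≠ b)
    {d : G} (hd : d ∈ D) (hrel : ∀ a ∈ D, ∀ b ∈ D, Commute a b → RelV D b a)
    (hm : {y : G | y ∈ D ∧ Commute d y}.ncard = 2) : Nonempty (G ≃* Equiv.Perm (Fin 4)) := by
  classical
  have hG := class_group hD
  have hcd := fun {a x y : G} => perp_unique hD hd hm (a := a) (x := x) (y := y)
  obtain ⟨v, ⟨hv, hdv⟩, hvd⟩ : ∃ v ∈ {y : G | y ∈ D ∧ Commute d y}, v ≠ d :=
    Set.exists_ne_of_one_lt_ncard (by omega) d
  obtain ⟨e, he, hde⟩ := exists_not_commute hD hD2 hd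
  have hdd := tt_mul_self hG.1 hd
  have hee := tt_mul_self hG.1 he
  have hvv := tt_mul_self hG.1 hv
  have hinvd := tt_inv hG.1 hd
  have hinve := tt_inv hG.1 he
  have cd : ∀ z, d * (d * z) = z := fun z => by rw [← mul_assoc, hdd, one_mul]
  have ce : ∀ z, e * (e * z) = z := fun z => by rw [← mul_assoc, hee, one_mul]
  have hbde := tt_braid hG.1 hd he hde
  set u := d * v with hu
  have huu : u * u = 1 := by rw [hu, ← sq]; exact (tt_commute_iff hG.1 hd hv).1 hdv
  have hinvu : u⁻¹ = u := inv_eq_of_mul_eq_one_right huu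
  have cu : ∀ z, u * (u * z) = z := fun z => by rw [← mul_assoc, huu, one_mul]
  have huU : u ∈ pCore 2 G := (relV_iff hG hv hd).1 (hrel d hd v hv hdv)
  have hud : Commute u d := (Commute.refl d).mul_left hdv.symm
  -- conjugation by `u` swaps each pair away from `d`
  have hswap : ∀ f ∈ D, ¬ Commute d f → u * f * u ∈ D ∧ Commute f (u * f * u) ∧ u * f * u ≠ f := by
    intro f hf hdf
    have h1 : u * f * u ∈ D := by
      have := hG.2.1 u f hf
      rwa [hinvu] at this
    refine ⟨h1, ?_, fun h => ?_⟩
    · have hmem : f * (u * f * u) ∈ pCore 2 G := by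
        rw [show f * (u * f * u) = f * u * f⁻¹ * u by rw [tt_inv hG.1 hf]; simp only [mul_assoc]]
        exact mul_mem ((inferInstance : (pCore 2 G).Normal).conj_mem u huU f) huU
      exact relV_comm hf ((relV_iff hG hf h1).2 (mul_mem_comm hG hf h1 hmem))
    · have hc : Commute f u := by
        have h2 : u * f * u * u = f * u := by rw [h]
        rw [mul_assoc, huu, mul_one] at h2
        exact h2.symm
      exact hdf ((commute_pair_iff hG.1 hd hv hf hvd.symm hdv).1 hc).1.symm
  obtain ⟨he', hee', he'ne⟩ := hswap e he hde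
  have hc : e * d * e ∈ D := by
    have := hG.2.1 e d hd
    rwa [hinve] at this
  have hc' : e * v * e ∈ D := by
    have := hG.2.1 e v hv
    rwa [hinve] at this
  have hce : ¬ Commute (e * d * e) e := fun h => hde (by
    have := commute_conj e h
    rwa [hinve, show e * (e * d * e) * e = d by simp only [mul_assoc, ce, hee, mul_one],
      show e * e * e = e by rw [hee, one_mul]] at this)
  have hcd' : ¬ Commute (e * d * e) d := fun h => hde (by
    rw [← hbde] at h
    have := commute_conj d h
    rw [hinvd, show d * (d * e * d) * d = e by simp only [mul_assoc, cd, hdd, mul_one],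
      show d * d * d = d by rw [hdd, one_mul]] at this
    exact this.symm)
  have hcc' : Commute (e * d * e) (e * v * e) := by
    have := commute_conj e hdv
    rwa [hinve] at this
  have hc'ne : e * v * e ≠ e * d * e := fun h => hvd (mul_left_cancel (mul_right_cancel h))
  -- the third pair is swapped by `u` as well
  obtain ⟨hcu, hcuc, hcune⟩ := hswap _ hc (fun h => hcd' h.symm)
  have hucu : u * (e * d * e) * u = e * v * e := hcd hc hcu hc' hcune hc'ne hcuc hcc'
  -- there are only three pairs
  have hthree : ∀ f ∈ D, Commute d f ∨ Commute e f ∨ Commute (e * d * e) f := by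
    intro f hf
    by_contra! h
    obtain ⟨h1, h1c, h1ne⟩ := hswap f hf h.1
    set w := e * u * e with hw
    have hww : w * w = 1 := by
      rw [hw]
      simp only [mul_assoc, ce]
      rw [cu, hee]
    have hwU : w ∈ pCore 2 G := by
      have := (inferInstance : (pCore 2 G).Normal).conj_mem u huU e
      rwa [hinve] at this
    have hconjw : ∀ g ∈ D, ¬ Commute (e * d * e) g →
        w * g * w ∈ D ∧ Commute g (w * g * w) ∧ w * g * w ≠ g := by
      intro g hg hcg
      have hg' : e * g * e ∈ D := by
        have := hG.2.1 e g hg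
        rwa [hinve] at this
      have hdg : ¬ Commute d (e * g * e) := fun h => hcg (by
        have := commute_conj e h
        rwa [hinve, show e * (e * g * e) * e = g by simp only [mul_assoc, ce, hee, mul_one]] at this)
      obtain ⟨a, b, c⟩ := hswap _ hg' hdg
      have eq1 : w * g * w = e * (u * (e * g * e) * u) * e := by
        simp only [hw, mul_assoc]
      refine ⟨?_, ?_, fun h => c ?_⟩
      · rw [eq1]
        have := hG.2.1 e _ a
        rwa [hinve] at this
      · have := commute_conj e b
        rw [hinve, show e * (e * g * e) * e = g by simp only [mul_assoc, ce, hee, mul_one]] at this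
        rwa [eq1]
      · have h2 : e * (e * (u * (e * g * e) * u) * e) * e = e * g * e := by rw [← eq1, h]
        simpa only [mul_assoc, ce, hee, mul_one] using h2
    obtain ⟨h2, h2c, h2ne⟩ := hconjw f hf h.2.2
    have e1 : w * f * w = u * f * u := hcd hf h2 h1 h2ne h1ne h2c h1c
    -- the product of the pair of `e` is `w * u`
    set t := e * (u * e * u) with ht
    have htw : t = w * u := by simp only [ht, hw, mul_assoc]
    have htU : t ∈ pCore 2 G := by rw [htw]; exact mul_mem hwU huU
    have h3 : t * f * t⁻¹ ∈ D := hG.2.1 t f hf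
    have h3c : Commute f (t * f * t⁻¹) := by
      have hmem : f * (t * f * t⁻¹) ∈ pCore 2 G := inv_mul_mem_of_conj hG hf htU
      exact relV_comm hf ((relV_iff hG hf h3).2 (mul_mem_comm hG hf h3 hmem))
    have h3ne : t * f * t⁻¹ ≠ f := fun h' => h.2.1 (by
      have hcf : Commute f t := (mul_inv_eq_iff_eq_mul.1 h').symm
      exact ((commute_pair_iff hG.1 he he' hf he'ne.symm hee').1 hcf).1.symm)
    have e3 : t * f * t⁻¹ = u * f * u := hcd hf h3 h1 h3ne h1ne h3c h1c
    have hcw : ∀ z, w * (w * z) = z := fun z => by rw [← mul_assoc, hww, one_mul]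
    have htinv : t⁻¹ = u * w := by
      rw [htw, mul_inv_rev, hinvu, inv_eq_of_mul_eq_one_right hww]
    rw [htinv, htw, show w * u * f * (u * w) = w * (u * f * u) * w by simp only [mul_assoc],
      ← e1, show w * (w * f * w) * w = f by simp only [mul_assoc, hcw, hww, mul_one]] at e3
    exact h2ne e3.symm
  -- the six members
  set H := Subgroup.closure ({d, e} : Set G) with hH
  have hdH : d ∈ H := Subgroup.subset_closure (by simp)
  have heH : e ∈ H := Subgroup.subset_closure (by simp)
  have hgen : Subgroup.closure ({d, e, u} : Set G) = ⊤ := by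
    rw [eq_top_iff, ← hG.2.2, Subgroup.closure_le]
    intro f hf
    set W := Subgroup.closure ({d, e, u} : Set G)
    have hdW : d ∈ W := Subgroup.subset_closure (by simp)
    have heW : e ∈ W := Subgroup.subset_closure (by simp)
    have huW : u ∈ W := Subgroup.subset_closure (by simp)
    have hvW : v ∈ W := by
      have := mul_mem hdW huW
      rwa [hu, cd] at this
    rcases hthree f hf with h | h | h
    · by_cases hfd : f = d
      · exact hfd ▸ hdW
      · rw [hcd hd hf hv hfd hvd h hdv]; exact hvW
    · by_cases hfe : f = e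
      · exact hfe ▸ heW
      · rw [hcd he hf he' hfe he'ne h hee']; exact mul_mem (mul_mem huW heW) huW
    · by_cases hfc : f = e * d * e
      · exact hfc ▸ mul_mem (mul_mem heW hdW) heW
      · rw [hcd hc hf hc' hfc hc'ne h hcc']; exact mul_mem (mul_mem heW hvW) heW
  -- facts on membership in `H`
  have hH6 := fun {x : G} (hx : x ∈ H) => closure_pair_cases hdd hee hbde hx
  have hde1 : orderOf (d * e) = 3 :=
    orderOf_eq_prime (tt_noncommute_cube hG.1 hd he hde) fun h => hde (by
      rw [← hinve, ← eq_inv_of_mul_eq_one_left h])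
  have hed1 : orderOf (e * d) = 3 := by
    rw [← orderOf_inv, mul_inv_rev, hinvd, hinve]; exact hde1
  have hnotH : ∀ x ∈ D, x ≠ d → x ≠ e → x ≠ e * d * e → x ∉ H := by
    intro x hx h1 h2 h3 hxH
    rcases hH6 hxH with h | h | h | h | h | h
    · exact Invol.ne_one_of_orderOf_two (hG.1.1 x hx) h
    · exact h1 h
    · exact h2 h
    · exact h3 h
    · have := hG.1.1 x hx
      rw [h, hde1] at this; omega
    · have := hG.1.1 x hx
      rw [h, hed1] at this; omega
  have hvH : v ∉ H := hnotH v hv hvd (fun h => hde (h ▸ hdv)) fun h => hcd' (h ▸ hdv.symm)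
  have he'H : u * e * u ∉ H := hnotH _ he' (fun h => hde (h ▸ hee').symm) he'ne
    fun h => hce (h ▸ hee').symm
  have hc'H : e * v * e ∉ H := hnotH _ hc' (fun h => hcd' (by rw [h] at hcc'; exact hcc'))
    (fun h => hce (by rw [h] at hcc'; exact hcc'))
    hc'ne
  have huH : u ∉ H := fun h => hvH (by
    have := mul_mem hdH h
    rwa [hu, cd] at this)
  -- the four cosets
  let q : G → G ⧸ H := QuotientGroup.mk
  have hq : ∀ x y : G, q x = q y ↔ x⁻¹ * y ∈ H := fun x y => QuotientGroup.eq
  have hsm : ∀ x y : G, x • q y = q (x * y) := fun x y => rfl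
  let p : Fin 4 → G ⧸ H := ![q 1, q u, q (e * u), q (d * (e * u))]
  have hA : u * (e * d * e) * u = e * (d * u) * e := by
    rw [hucu, hu, cd]
  have q2 : q (u * (e * u)) = q (d * (e * u)) := by
    refine (hq _ _).2 ?_
    have key : (u * (e * u))⁻¹ * (d * (e * u)) = e * d * e := by
      calc (u * (e * u))⁻¹ * (d * (e * u)) = u * e * (u * d) * e * u := by
            simp only [mul_inv_rev, hinvu, hinve, mul_assoc]
        _ = u * (e * (d * u) * e) * u := by rw [hud.eq]; simp only [mul_assoc]
        _ = u * (u * (e * d * e) * u) * u := by rw [hA]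
        _ = e * d * e := by simp only [mul_assoc, cu, huu, mul_one]
    rw [key]
    exact mul_mem (mul_mem heH hdH) heH
  have hp0 : p 0 = q 1 := rfl
  have hp1 : p 1 = q u := rfl
  have hp2 : p 2 = q (e * u) := rfl
  have hp3 : p 3 = q (d * (e * u)) := rfl
  have hdu : q (d * u) = q u := by
    refine ((hq _ _).2 ?_).symm
    rw [← hud.eq, ← mul_assoc, inv_mul_cancel, one_mul]
    exact hdH
  have hedeu : q (e * (d * (e * u))) = q (d * (e * u)) := by
    refine (hq _ _).2 ?_
    have h1 : (e * (d * (e * u)))⁻¹ * (d * (e * u)) = u * d * u := by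
      calc (e * (d * (e * u)))⁻¹ * (d * (e * u)) = u * ((e * d * e) * d * e) * u := by
            simp only [mul_inv_rev, hinvu, hinvd, hinve, mul_assoc]
        _ = u * ((d * e * d) * d * e) * u := by rw [hbde]
        _ = u * d * u := by simp only [mul_assoc, cd, ce]
    rw [h1, hud.eq, mul_assoc, huu, mul_one]
    exact hdH
  have hudeu : q (u * (d * (e * u))) = q (e * u) := by
    have h1 := congrArg (fun z => d • z) q2
    simp only [hsm, cd] at h1
    rw [← h1, ← mul_assoc, hud.eq, mul_assoc]
  have hgens : ∀ s ∈ ({d, e, u} : Set G), ∀ x ∈ Set.range p, s • x ∈ Set.range p := by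
    rintro s hs _ ⟨i, rfl⟩
    rcases hs with rfl | rfl | rfl <;> fin_cases i <;>
      simp only [Fin.isValue, Fin.zero_eta, Fin.mk_one, Fin.reduceFinMk, hp0, hp1, hp2, hp3, hsm]
    · exact ⟨0, hp0.trans ((hq _ _).2 (by simpa using hdH))⟩
    · exact ⟨1, hp1.trans hdu.symm⟩
    · exact ⟨3, hp3⟩
    · exact ⟨2, by rw [hp2, cd]⟩
    · exact ⟨0, hp0.trans ((hq _ _).2 (by simpa using heH))⟩
    · exact ⟨2, hp2⟩
    · exact ⟨1, by rw [hp1, ce]⟩
    · exact ⟨3, hp3.trans hedeu.symm⟩
    · exact ⟨1, by rw [hp1, mul_one]⟩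
    · exact ⟨0, by rw [hp0, huu]⟩
    · exact ⟨3, hp3.trans q2.symm⟩
    · exact ⟨2, hp2.trans hudeu.symm⟩
  have hinvar : ∀ g ∈ Subgroup.closure ({d, e, u} : Set G), ∀ x ∈ Set.range p,
      g • x ∈ Set.range p ∧ g⁻¹ • x ∈ Set.range p := by
    intro g hg
    induction hg using Subgroup.closure_induction with
    | mem s hs =>
      have hinv : s⁻¹ = s := by
        rcases hs with rfl | rfl | rfl
        exacts [hinvd, hinve, hinvu]
      exact fun x hx => ⟨hgens s hs x hx, hinv.symm ▸ hgens s hs x hx⟩
    | one => simpa using fun x hx => hx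
    | mul a b _ _ iha ihb =>
      intro x hx
      rw [mul_inv_rev, mul_smul, mul_smul]
      exact ⟨(iha _ (ihb x hx).1).1, (ihb _ (iha x hx).2).2⟩
    | inv a _ ih =>
      intro x hx
      rw [inv_inv]
      exact ⟨(ih x hx).2, (ih x hx).1⟩
  have hsurj : Function.Surjective p := by
    intro x
    induction x using QuotientGroup.induction_on with
    | H g =>
      have := (hinvar g (hgen ▸ Subgroup.mem_top g) (q 1) ⟨0, hp0⟩).1
      rwa [hsm, mul_one] at this
  have heuH : e * u ∉ H := fun h => huH (by
    have := mul_mem heH h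
    rwa [ce] at this)
  have hdeuH : d * (e * u) ∉ H := fun h => heuH (by
    have := mul_mem hdH h
    rwa [cd] at this)
  have hne12 : u⁻¹ * (e * u) ∉ H := by rw [hinvu, ← mul_assoc]; exact he'H
  have hne13 : u⁻¹ * (d * (e * u)) ∉ H := fun h => he'H (by
    have := mul_mem hdH h
    rwa [hinvu, ← mul_assoc u d, hud.eq, mul_assoc d u, cd, ← mul_assoc] at this)
  have hne23 : (e * u)⁻¹ * (d * (e * u)) ∉ H := by
    rw [mul_inv_rev, hinvu, hinve,
      show u * e * (d * (e * u)) = u * (e * d * e) * u by simp only [mul_assoc], hucu]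
    exact hc'H
  have hinj : Function.Injective p := by
    intro i j hij
    have key : ∀ x y : G, x⁻¹ * y ∉ H → q x ≠ q y := fun x y h h' => h ((hq x y).1 h')
    fin_cases i <;> fin_cases j <;>
      simp only [Fin.isValue, Fin.zero_eta, Fin.mk_one, Fin.reduceFinMk, hp0, hp1, hp2, hp3] at hij ⊢
    all_goals first
      | rfl
      | exact absurd hij (key _ _ (by simpa using huH))
      | exact absurd hij.symm (key _ _ (by simpa using huH))
      | exact absurd hij (key _ _ (by simpa using heuH))
      | exact absurd hij.symm (key _ _ (by simpa using heuH))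
      | exact absurd hij (key _ _ (by simpa using hdeuH))
      | exact absurd hij.symm (key _ _ (by simpa using hdeuH))
      | exact absurd hij (key _ _ hne12)
      | exact absurd hij.symm (key _ _ hne12)
      | exact absurd hij (key _ _ hne13)
      | exact absurd hij.symm (key _ _ hne13)
      | exact absurd hij (key _ _ hne23)
      | exact absurd hij.symm (key _ _ hne23)
  have hp : Function.Bijective p := ⟨hinj, hsurj⟩
  let ψ : G →* Equiv.Perm (Fin 4) :=
    (Equiv.ofBijective p hp).symm.permCongrHom.toMonoidHom.comp (MulAction.toPermHom G (G ⧸ H))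
  have hψ : Function.Injective ψ := by
    refine (Equiv.ofBijective p hp).symm.permCongrHom.injective.comp ?_
    refine (injective_iff_map_eq_one _).2 fun g hg => ?_
    have hfix : ∀ x : G, x⁻¹ * g * x ∈ H := by
      intro x
      have h : g • q x = q x := congrArg (fun σ : Equiv.Perm (G ⧸ H) => σ (q x)) hg
      rw [hsm] at h
      have := (hq _ _).1 h.symm
      rwa [← mul_assoc] at this
    have h1 := hfix 1
    have h2 := hfix u
    have h3 := hfix (e * u)
    rw [inv_one, one_mul, mul_one] at h1
    rw [hinvu] at h2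
    rw [mul_inv_rev, hinvu, hinve] at h3
    rcases hH6 h1 with h | h | h | h | h | h <;> rw [h] at h2 h3 ⊢
    · exact absurd h3 (by
        rw [show u * e * d * (e * u) = u * (e * d * e) * u by simp only [mul_assoc], hucu]
        exact hc'H)
    · exact absurd h2 he'H
    · exact absurd h2 (hucu ▸ hc'H)
    · refine absurd ?_ he'H
      have := mul_mem hdH h2
      rwa [show u * (d * e) * u = d * (u * e * u) by
        rw [← mul_assoc u, hud.eq]; simp only [mul_assoc], cd] at this
    · refine absurd ?_ he'H
      have := mul_mem h2 hdH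
      rwa [show u * (e * d) * u = u * e * (d * u) by simp only [mul_assoc], ← hud.eq,
        show u * e * (u * d) * d = u * e * u * (d * d) by simp only [mul_assoc], hdd, mul_one]
        at this
  have hHindex : H.index = 4 := by
    rw [Subgroup.index_eq_card, ← Nat.card_congr (Equiv.ofBijective p hp), Nat.card_fin]
  have h6 : 6 ≤ Nat.card H := by
    have h2 : 2 ∣ Nat.card H := by
      have := Subgroup.orderOf_dvd_natCard H hdH
      rwa [hG.1.1 d hd] at this
    have h3 : 3 ∣ Nat.card H := by
      have := Subgroup.orderOf_dvd_natCard H (mul_mem hdH heH)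
      rwa [hde1] at this
    exact Nat.le_of_dvd Nat.card_pos (Nat.Coprime.mul_dvd_of_dvd_of_dvd (by norm_num) h2 h3)
  have hcard : Nat.card (Equiv.Perm (Fin 4)) ≤ Nat.card G := by
    rw [← H.card_mul_index, hHindex, Nat.card_perm, Nat.card_fin]
    norm_num [Nat.factorial]
    omega
  exact ⟨MulEquiv.ofBijective ψ ((Nat.bijective_iff_injective_and_card ψ).2
    ⟨hψ, le_antisymm (Nat.card_le_card_of_injective ψ hψ) hcard⟩)⟩

end Cfsg.Agent.Fischer3
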