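import Cfsg.Agent.Lib.Fischer3.Orbits

/-!
# Groups generated by 3-transpositions of width one
-/

set_option autoImplicit false
set_option linter.unusedSectionVars false

namespace Cfsg.Agent.Fischer3

open Cfsg ClassK

universe u

variable {G : Type u} [Group G] [Finite G] {D : Set G}

theorem mul_mem_pCore_of_pairwise (hD : IsThreeTranspositionGroup D)
    (hnc : ∀ x ∈ D, ∀ y ∈ D, Commute x y → x = y) {a b : G} (ha : a ∈ D) (hb : b ∈ D) :
    a * b ∈ pCore 3 G := by
  haveI : (prodSub D).Normal :=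
    ⟨fun x hx g => conj_mem_prodSub (fun s hs => hD.2.1 g s hs) hx⟩
  exact Basics.le_pCore (isPGroup_prodSub_three hD.1 (fun x _ y hy => hD.2.1 x y hy) hnc)
    (mul_mem_prodSub ha hb)

theorem sup_pCore_eq_top_of_pairwise (hD : IsThreeTranspositionGroup D)
    (hnc : ∀ x ∈ D, ∀ y ∈ D, Commute x y → x = y) {d : G} (hd : d ∈ D) :
    Subgroup.zpowers d ⊔ pCore 3 G = ⊤ := by
  rw [eq_top_iff, ← hD.2.2, Subgroup.closure_le]
  intro s hs
  have h := mul_mem (Subgroup.mem_sup_left (T := pCore 3 G) (Subgroup.mem_zpowers d))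
    (Subgroup.mem_sup_right (S := Subgroup.zpowers d) (mul_mem_pCore_of_pairwise hD hnc hd hs))
  rwa [← mul_assoc, tt_mul_self hD.1 hd, one_mul] at h

theorem eq_of_commute_of_sup (hD : IsThreeTranspositionGroup D) {d : G} (hd : d ∈ D)
    (h : Subgroup.zpowers d ⊔ pCore 3 G = ⊤) {a b : G} (ha : a ∈ D) (hb : b ∈ D)
    (hc : Commute a b) : a = b := by
  haveI : Fact (Nat.Prime 3) := ⟨Nat.prime_three⟩
  have hN := Basics.pCore_isPGroup (G := G) 3
  have key : ∀ x ∈ D, d * x ∈ pCore 3 G := by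
    intro x hx
    obtain ⟨q, hq, n, hn, hxn⟩ := Subgroup.mem_sup_of_normal_right.1
      (h ▸ Subgroup.mem_top x : x ∈ Subgroup.zpowers d ⊔ pCore 3 G)
    obtain ⟨k, rfl⟩ := Subgroup.mem_zpowers_iff.1 hq
    have hpow : d ^ k = 1 ∨ d ^ k = d := by
      rw [← zpow_mod_orderOf, hD.1.1 d hd]
      rcases Int.emod_two_eq_zero_or_one k with e | e <;> simp [e]
    rcases hpow with e | e <;> rw [e] at hxn
    · rw [one_mul] at hxn
      subst hxn
      exact absurd (eq_one_of_isPGroup hN (n := 2) (by norm_num) hn (by rw [sq, tt_mul_self hD.1 hx]))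
        (Invol.ne_one_of_orderOf_two (hD.1.1 n hx))
    · rw [← hxn, ← mul_assoc, tt_mul_self hD.1 hd, one_mul]; exact hn
  have hm := mul_mem (mul_mem_comm hD hd ha (key a ha)) (key b hb)
  rw [mul_assoc a d, ← mul_assoc d d b, tt_mul_self hD.1 hd, one_mul] at hm
  exact eq_of_mul_mem_pGroup hD hN ha hb hm (n := 2) (by norm_num)
    ((tt_commute_iff hD.1 ha hb).1 hc)

theorem width_eq_one_iff (hD : IsThreeTranspositionGroup D) {d : G} (hd : d ∈ D) :
    commutingWidth D = 1 ↔ ∀ x ∈ D, ∀ y ∈ D, Commute x y → x = y := by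
  set A := {n : ℕ | ∃ E : Set G, E ⊆ D ∧ E.Finite ∧ (∀ a ∈ E, ∀ b ∈ E, Commute a b) ∧ E.ncard = n}
    with hA
  have hw : commutingWidth D = sSup A := rfl
  have hbdd : BddAbove A := ⟨Nat.card G, fun n ⟨E, _, _, _, hn⟩ => hn ▸ Set.ncard_le_card E⟩
  have h1 : 1 ∈ A := ⟨{d}, by simp [hd], Set.finite_singleton d, by simp, Set.ncard_singleton d⟩
  constructor
  · intro h x hx y hy hc
    by_contra hxy
    have h2 : 2 ∈ A := ⟨{x, y}, by simp [Set.insert_subset_iff, hx, hy], Set.toFinite _,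
      by rintro a (rfl | rfl) b (rfl | rfl) <;> simp [hc, hc.symm], Set.ncard_pair hxy⟩
    have := le_csSup hbdd h2
    omega
  · intro h
    refine hw.trans (le_antisymm (csSup_le ⟨1, h1⟩ ?_) (le_csSup hbdd h1))
    rintro n ⟨E, hE, hfin, hcomm, rfl⟩
    exact (Set.ncard_le_one hfin).2 fun a ha b hb => h a (hE ha) b (hE hb) (hcomm a ha b hb)

end Cfsg.Agent.Fischer3
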